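import Groth.Agent.Lib.Pur25.Extend
import Groth.Agent.Lib.CplLocH7.Basic
import Mathlib.CategoryTheory.MorphismProperty.OverAdjunction

/-!
# Restriction along commutative squares
-/

set_option autoImplicit false

universe u

open CategoryTheory CategoryTheory.Limits AlgebraicGeometry

noncomputable section

namespace Groth.Agent.Pur25

/-- Restriction is compatible with composition. -/
def restrictComp {P X S : Scheme.{u}} (a : P ⟶ X) (c : X ⟶ S) :
    FEt.restrict (a ≫ c) ≅ FEt.restrict c ⋙ FEt.restrict a :=
  MorphismProperty.Over.pullbackComp a c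

/-- Restriction along the two sides of a commutative square. -/
def restrictSquare {P X Y S : Scheme.{u}} (c : X ⟶ S) (a : P ⟶ X) (d : Y ⟶ S) (b : P ⟶ Y) (h : b ≫ d = a ≫ c) :
    FEt.restrict c ⋙ FEt.restrict a ≅ FEt.restrict d ⋙ FEt.restrict b :=
  (restrictComp a c).symm ≪≫ MorphismProperty.Over.pullbackCongr h.symm ≪≫ restrictComp b d

theorem faithfullyFlat_completion (A : Type u) [CommRing A] [IsNoetherianRing A] [IsLocalRing A] :
    Module.FaithfullyFlat A (AdicCompletion (IsLocalRing.maximalIdeal A) A) :=
  CplLocH7.faithfullyFlat_cpl A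

end Groth.Agent.Pur25
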