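import Groth.Agent.Lib.Pur25.BranchLocal
import Groth.Agent.Lib.EtaleNhd17.Basic
import Groth.Agent.Lib.Cyc26.PullDiv
import Mathlib.AlgebraicGeometry.Morphisms.QuasiFinite

/-!
# Purity of the branch locus for schemes
-/

set_option autoImplicit false

universe u

open CategoryTheory AlgebraicGeometry IsLocalRing

noncomputable section

namespace Groth.Agent.Pur25

variable {X Y : Scheme.{u}} (f : X ⟶ Y)

/-- The local ring at a quasi-finite point is essentially finite over the one below. -/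
theorem exists_subalgebra_of_quasiFiniteAt [LocallyOfFiniteType f] (x : X) (hx : f.QuasiFiniteAt x) :
    letI := (f.stalkMap x).hom.toAlgebra
    ∃ C : Subalgebra (Y.presheaf.stalk (f x)) (X.presheaf.stalk x), Module.Finite (Y.presheaf.stalk (f x)) C ∧
      ∀ z : X.presheaf.stalk x, ∃ s t : C, IsUnit (t : X.presheaf.stalk x) ∧ z * t = s := by
  classical
  letI := (f.stalkMap x).hom.toAlgebra
  obtain ⟨U, hU, hxU, -⟩ := exists_isAffineOpen_mem_and_subset (X := Y) (x := f x) (U := ⊤) trivial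
  obtain ⟨V, hV, hxV, hVU⟩ := exists_isAffineOpen_mem_and_subset (X := X) (x := x) (U := f ⁻¹ᵁ U) hxU
  have hft := f.finiteType_appLE hU hV hVU
  have hqf := hx.quasiFiniteAt hV hU hVU hxV
  algebraize [(f.appLE U V hVU).hom]
  haveI : Algebra.QuasiFiniteAt Γ(Y, U) (hV.primeIdealOf ⟨x, hxV⟩).asIdeal := hqf
  obtain ⟨S', hS', r, hrp, hbij⟩ :=
    Algebra.QuasiFiniteAt.exists_fg_and_exists_notMem_and_awayMap_bijective (R := Γ(Y, U))
      (hV.primeIdealOf ⟨x, hxV⟩).asIdeal
  haveI : Module.Finite Γ(Y, U) S' := ⟨(Submodule.fg_top _).mpr hS'⟩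
  letI := TopCat.Presheaf.algebra_section_stalk X.presheaf (⟨x, hxV⟩ : V)
  haveI := hV.isLocalization_stalk ⟨x, hxV⟩
  let γ : Γ(X, V) →+* X.presheaf.stalk x := algebraMap Γ(X, V) (X.presheaf.stalk x)
  let φ : Γ(Y, U) →+* Y.presheaf.stalk (f x) := (Y.presheaf.germ U (f x) (hVU hxV)).hom
  have hcomm : (algebraMap (Y.presheaf.stalk (f x)) (X.presheaf.stalk x)).comp φ =
      γ.comp (algebraMap Γ(Y, U) Γ(X, V)) := by
    ext a
    show f.stalkMap x (Y.presheaf.germ U (f x) (hVU hxV) a) = X.presheaf.germ V x hxV (f.appLE U V hVU a)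
    rw [← ConcreteCategory.comp_apply, f.germ_stalkMap, ← ConcreteCategory.comp_apply, Scheme.Hom.appLE,
      Category.assoc, TopCat.Presheaf.germ_res]
  obtain ⟨T, hT⟩ := hS'
  have hint : ∀ c ∈ S', IsIntegral (Y.presheaf.stalk (f x)) (γ c) := fun c hc =>
    IsIntegral.map_of_comp_eq φ γ hcomm
      ((IsIntegral.of_finite Γ(Y, U) (⟨c, hc⟩ : S')).map S'.val)
  let C : Subalgebra (Y.presheaf.stalk (f x)) (X.presheaf.stalk x) := Algebra.adjoin _ (γ '' (T : Set Γ(X, V)))
  have hsp : ∀ c ∈ Submodule.span Γ(Y, U) (T : Set Γ(X, V)), c ∈ S' := fun c hc =>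
    show c ∈ Subalgebra.toSubmodule S' from hT ▸ hc
  have hmem : ∀ c ∈ S', γ c ∈ C := by
    intro c hc
    have hc' : c ∈ Submodule.span Γ(Y, U) (T : Set Γ(X, V)) := hT ▸ hc
    induction hc' using Submodule.span_induction with
    | mem d hd => exact Algebra.subset_adjoin ⟨d, hd, rfl⟩
    | zero => rw [map_zero]; exact C.zero_mem
    | add a b ha' hb' ha hb => rw [map_add]; exact C.add_mem (ha (hsp a ha')) (hb (hsp b hb'))
    | smul a d hd ih =>
      rw [Algebra.smul_def, map_mul, ← RingHom.comp_apply, ← hcomm]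
      exact C.mul_mem (C.algebraMap_mem _) (ih (hsp d hd))
  refine ⟨C, ⟨(Submodule.fg_top _).mpr (fg_adjoin_of_finite (T.finite_toSet.image γ) ?_)⟩, ?_⟩
  · rintro _ ⟨c, hc, rfl⟩
    exact hint c (hsp c (Submodule.subset_span hc))
  have hru : IsUnit (γ r.1) := IsLocalization.map_units (X.presheaf.stalk x)
    (⟨r.1, hrp⟩ : (hV.primeIdealOf ⟨x, hxV⟩).asIdeal.primeCompl)
  have hdiv : ∀ b : Γ(X, V), ∃ (N : ℕ) (s : Γ(X, V)), s ∈ S' ∧ γ b * γ r.1 ^ N = γ s := by
    intro b
    obtain ⟨y, hy⟩ := hbij.2 (algebraMap Γ(X, V) _ b)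
    obtain ⟨⟨s, ⟨_, n, rfl⟩⟩, hs⟩ := IsLocalization.surj (Submonoid.powers r) y
    have h1 := congrArg (Localization.awayMap S'.val.toRingHom r) hs
    rw [map_mul, hy] at h1
    simp only [Localization.awayMap, IsLocalization.Away.map, IsLocalization.map_eq] at h1
    rw [← map_mul] at h1
    obtain ⟨⟨_, m, rfl⟩, hm⟩ := (IsLocalization.eq_iff_exists (Submonoid.powers (S'.val.toRingHom r)) _).1 h1
    refine ⟨n, s.1, s.2, ?_⟩
    have h2 := congrArg γ hm
    simp only [map_mul, map_pow] at h2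
    exact (hru.pow m).mul_left_cancel h2
  intro z
  obtain ⟨⟨b, t⟩, hbt⟩ := IsLocalization.surj (hV.primeIdealOf ⟨x, hxV⟩).asIdeal.primeCompl z
  obtain ⟨N, s, hs, hs'⟩ := hdiv b
  obtain ⟨N', s₂, hs₂, hs₂'⟩ := hdiv t.1
  refine ⟨⟨γ s * γ r.1 ^ N', C.mul_mem (hmem s hs) (C.pow_mem (hmem r.1 r.2) _)⟩,
    ⟨γ s₂ * γ r.1 ^ N, C.mul_mem (hmem s₂ hs₂) (C.pow_mem (hmem r.1 r.2) _)⟩, ?_, ?_⟩
  · show IsUnit (γ s₂ * γ r.1 ^ N)
    rw [← hs₂']
    exact ((IsLocalization.map_units _ t).mul (hru.pow _)).mul (hru.pow _)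
  · show z * (γ s₂ * γ r.1 ^ N) = γ s * γ r.1 ^ N'
    have hbt' : z * γ t.1 = γ b := hbt
    rw [← hs₂', ← hs', ← hbt']
    ring

/-- The point below a prime of a local ring. -/
theorem exists_specializes_of_prime (x : X) (P : Ideal (X.presheaf.stalk x)) [P.IsPrime] :
    ∃ (x' : X) (h : x' ⤳ x),
      letI := (X.presheaf.stalkSpecializes h).hom.toAlgebra
      IsLocalization.AtPrime (X.presheaf.stalk x') P := by
  let pt : Spec (X.presheaf.stalk x) := ⟨P, inferInstance⟩
  have h : X.fromSpecStalk x pt ⤳ x := by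
    have : X.fromSpecStalk x pt ∈ Set.range (X.fromSpecStalk x) := ⟨_, rfl⟩
    rw [Scheme.range_fromSpecStalk] at this
    exact this
  refine ⟨_, h, ?_⟩
  set x' := X.fromSpecStalk x pt with hx'
  have e : Spec.map (X.presheaf.stalkSpecializes h) (closedPoint (X.presheaf.stalk x')) = pt := by
    refine (X.fromSpecStalk x).isEmbedding.injective ?_
    rw [← Scheme.Hom.comp_apply, Scheme.SpecMap_stalkSpecializes_fromSpecStalk, Scheme.fromSpecStalk_closedPoint]
  have hP : RingHom.ker (Cyc.specMap x x' h) = P := by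
    refine Eq.trans ?_ (congrArg PrimeSpectrum.asIdeal e)
    ext r
    show X.residue x' (X.presheaf.stalkSpecializes h r) = 0 ↔ _
    rw [show (Spec.map (X.presheaf.stalkSpecializes h) (closedPoint (X.presheaf.stalk x'))).asIdeal =
      (maximalIdeal (X.presheaf.stalk x')).comap (X.presheaf.stalkSpecializes h).hom from rfl, Ideal.mem_comap]
    exact residue_eq_zero_iff _
  letI := (X.presheaf.stalkSpecializes h).hom.toAlgebra
  have := Cyc26.isLocalization_stalkSpecializes h
  simpa only [IsLocalization.AtPrime, hP] using this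

/-- **Purity of the branch locus**. -/
theorem exists_etale_of_codim_one [LocallyOfFiniteType f] [IsLocallyNoetherian Y] (x : X)
    [IsDomain (X.presheaf.stalk x)] [IsIntegrallyClosed (X.presheaf.stalk x)]
    [IsRegularLocalRing (Y.presheaf.stalk (f x))] (hq : f.QuasiFiniteAt x)
    (hdim : ringKrullDim (X.presheaf.stalk x) = ringKrullDim (Y.presheaf.stalk (f x)))
    (hdim1 : (1 : WithBot ℕ∞) ≤ ringKrullDim (X.presheaf.stalk x))
    (hunr : ∀ x' : X, x' ⤳ x → ringKrullDim (X.presheaf.stalk x') = 1 →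
      (f.stalkMap x').hom.FormallyUnramified) :
    ∃ U : X.Opens, x ∈ U ∧ Etale (U.ι ≫ f) := by
  letI := (f.stalkMap x).hom.toAlgebra
  obtain ⟨C, hC, hloc⟩ := exists_subalgebra_of_quasiFiniteAt f x hq
  haveI := hC
  obtain ⟨hfl, hu⟩ := flat_unramified_of_codim_one C hloc hdim hdim1 fun P hP hP1 => by
    obtain ⟨x', h, hl⟩ := exists_specializes_of_prime x P
    letI := (X.presheaf.stalkSpecializes h).hom.toAlgebra
    haveI := hl
    have hd : ringKrullDim (X.presheaf.stalk x') = 1 := by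
      rw [IsLocalization.AtPrime.ringKrullDim_eq_height P (X.presheaf.stalk x'), hP1]
      rfl
    have hcomp : (Y.presheaf.stalkSpecializes (h.map f.continuous) ≫ f.stalkMap x') =
        f.stalkMap x ≫ X.presheaf.stalkSpecializes h := Scheme.Hom.stalkSpecializes_stalkMap f x' x h
    letI : Algebra (Y.presheaf.stalk (f x)) (X.presheaf.stalk x') :=
      (f.stalkMap x ≫ X.presheaf.stalkSpecializes h).hom.toAlgebra
    haveI : IsScalarTower (Y.presheaf.stalk (f x)) (X.presheaf.stalk x) (X.presheaf.stalk x') :=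
      IsScalarTower.of_algebraMap_eq fun _ => rfl
    haveI : Algebra.FormallyUnramified (Y.presheaf.stalk (f x)) (X.presheaf.stalk x') := by
      rw [← RingHom.formallyUnramified_algebraMap]
      show (f.stalkMap x ≫ X.presheaf.stalkSpecializes h).hom.FormallyUnramified
      rw [← hcomp, CommRingCat.hom_comp]
      refine RingHom.FormallyUnramified.comp ?_ (hunr x' h hd)
      letI := (Y.presheaf.stalkSpecializes (h.map f.continuous)).hom.toAlgebra
      haveI := Cyc26.isLocalization_stalkSpecializes (h.map f.continuous)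
      exact RingHom.formallyUnramified_algebraMap.2 (Algebra.FormallyUnramified.of_isLocalization
        (RingHom.ker (Cyc.specMap (f x) (f x') (h.map f.continuous))).primeCompl)
    exact Algebra.FormallyUnramified.of_equiv (A := X.presheaf.stalk x') (B := Localization.AtPrime P)
      ((IsLocalization.algEquiv P.primeCompl (X.presheaf.stalk x') (Localization.AtPrime P)).restrictScalars _)
  exact EtaleNhd17.exists_etale_of_stalk f x (RingHom.flat_algebraMap_iff.2 hfl) (RingHom.formallyUnramified_algebraMap.2 hu)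

end Groth.Agent.Pur25
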