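import Groth.Agent.Lib.Pur25.Hyper
import Groth.Agent.Lib.FEtEq25.DepthTwo
import Groth.Agent.Lib.Hens.PairOps
import Groth.Agent.Lib.Hens.Local

/-!
# Extension from a hypersurface in depth three
-/

set_option autoImplicit false

universe u

open CategoryTheory CategoryTheory.Limits AlgebraicGeometry

namespace Groth.Agent.Pur25

variable {A : Type u} [CommRing A] [IsNoetherianRing A] [IsLocalRing A]

theorem isLocalHom_completion :
    IsLocalHom (algebraMap A (AdicCompletion (IsLocalRing.maximalIdeal A) A)) :=
  ((IsLocalRing.local_hom_TFAE _).out 2 0 rfl rfl).mp (AdicCompletion.maximalIdeal_eq_map (R := A)).ge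

theorem depth_le_completion :
    LocCoh.depth A A ≤ LocCoh.depth (AdicCompletion (IsLocalRing.maximalIdeal A) A)
      (AdicCompletion (IsLocalRing.maximalIdeal A) A) := by
  haveI := isLocalHom_completion (A := A)
  haveI := faithfullyFlat_completion A
  exact FEtEq25.depth_le_of_flat_local (algebraMap A (AdicCompletion (IsLocalRing.maximalIdeal A) A))
    (RingHom.flat_algebraMap_iff.2 inferInstance)

theorem span_completion {ι : Type} {x : ι → A} (hx : Ideal.span (Set.range x) = IsLocalRing.maximalIdeal A) :
    Ideal.span (Set.range fun i => algebraMap A (AdicCompletion (IsLocalRing.maximalIdeal A) A) (x i)) =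
      IsLocalRing.maximalIdeal (AdicCompletion (IsLocalRing.maximalIdeal A) A) := by
  rw [AdicCompletion.maximalIdeal_eq_map, ← hx, Ideal.map_span, ← Set.range_comp]
  rfl

/-- SGA 2 X: extension from a hypersurface in depth three. -/
theorem extends_of_depth_three (hA : (3 : ℕ∞) ≤ LocCoh.depth A A) (f : A) (hf : f ∈ IsLocalRing.maximalIdeal A)
    (V : FEt.Cat (FEt.puncturedSpec A : Scheme.{u})) (Y₀ : FEt.Cat (Spec (CommRingCat.of (A ⧸ Ideal.span {f}))))
    (h : Nonempty ((FEt.restrict (pullback.snd (FEt.puncturedSpec A).ι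
        (Spec.map (CommRingCat.ofHom (Ideal.Quotient.mk (Ideal.span {f})))))).obj Y₀ ≅
        (FEt.restrict (pullback.fst (FEt.puncturedSpec A).ι
        (Spec.map (CommRingCat.ofHom (Ideal.Quotient.mk (Ideal.span {f})))))).obj V)) :
    ∃ Y : FEt.Cat (Spec (CommRingCat.of A)),
      Nonempty ((FEt.restrict (FEt.puncturedSpec A).ι).obj Y ≅ V) := by
  obtain ⟨h⟩ := h
  obtain ⟨n, x, hx⟩ := exists_generators A
  haveI : IsNoetherianRing (AdicCompletion (IsLocalRing.maximalIdeal A) A) := CplLocH7.isNoetherianRing_cpl A
  haveI := faithfullyFlat_completion A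
  haveI := Branch14.henselianLocalRing_cpl A
  have hF : algebraMap A (AdicCompletion (IsLocalRing.maximalIdeal A) A) f ∈
      IsLocalRing.maximalIdeal (AdicCompletion (IsLocalRing.maximalIdeal A) A) := by
    rw [AdicCompletion.maximalIdeal_eq_map]
    exact Ideal.mem_map_of_mem _ hf
  haveI : HenselianRing (AdicCompletion (IsLocalRing.maximalIdeal A) A)
      (Ideal.span {algebraMap A (AdicCompletion (IsLocalRing.maximalIdeal A) A) f}) :=
    Hens.henselianRing_of_le (Hens.henselianRing_maximalIdeal _) ((Ideal.span_singleton_le_iff_mem _).2 hF)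
  obtain ⟨h0, h1⟩ := kill_of_depth_three (span_completion hx) (hA.trans depth_le_completion)
  exact extends_of_hypersurface (x := x) (N := 0) (mem_puncturedSpec_iff hx) _ (qBij_completion hx) f
    (mem_radical_span (span_completion hx) hF) (by rwa [pow_zero]) (by rwa [pow_zero]) V Y₀ h

end Groth.Agent.Pur25
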