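import Groth.Agent.Lib.Pur25.Sections
import Groth.Agent.Lib.Pur25.Completion
import Groth.Agent.Lib.AB5.Basic
import Groth.Agent.S18423
import Mathlib.RingTheory.Etale.Locus

/-!
# Purity for regular local rings
-/

set_option autoImplicit false

universe u

open CategoryTheory CategoryTheory.Limits AlgebraicGeometry TopologicalSpace
open scoped Pointwise

noncomputable section

namespace Groth.Agent.Pur25

/-- A model is étale at the primes in the open. -/
theorem isEtaleAt_of_model {A B : Type u} [CommRing A] [CommRing B] [Algebra A B] [Algebra.FiniteType A B]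
    [IsNoetherianRing A] {Z : Scheme.{u}} (g : Z ⟶ Spec (CommRingCat.of A)) [Etale g]
    (j : Z ⟶ Spec (CommRingCat.of B)) [IsOpenImmersion j]
    (hjg : j ≫ Spec.map (CommRingCat.ofHom (algebraMap A B)) = g) (c : B)
    (hc : ∀ q : PrimeSpectrum B, c ∉ q.asIdeal → q ∈ Set.range j) (q : PrimeSpectrum B) (hq : c ∉ q.asIdeal) :
    Algebra.IsEtaleAt A q.asIdeal := by
  haveI : Algebra.FinitePresentation A B := Algebra.FinitePresentation.of_finiteType.1 inferInstance
  let ι := Spec.map (CommRingCat.ofHom (algebraMap B (Localization.Away c)))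
  have hι : Set.range ι ⊆ Set.range j := by
    have : Set.range ι = (PrimeSpectrum.basicOpen c : Set (PrimeSpectrum B)) :=
      PrimeSpectrum.localization_away_comap_range (Localization.Away c) c
    rw [this]
    exact fun p hp => hc p hp
  haveI : IsOpenImmersion ι := IsOpenImmersion.of_isLocalization c
  let l := IsOpenImmersion.lift j ι hι
  have hl : l ≫ j = ι := IsOpenImmersion.lift_fac j ι hι
  haveI : IsOpenImmersion l := by
    haveI : IsOpenImmersion (l ≫ j) := by rw [hl]; infer_instance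
    exact IsOpenImmersion.of_comp l j
  have he : Etale (Spec.map (CommRingCat.ofHom (algebraMap A (Localization.Away c)))) := by
    rw [IsScalarTower.algebraMap_eq A B (Localization.Away c), CommRingCat.ofHom_comp, Spec.map_comp,
      show Spec.map (CommRingCat.ofHom (algebraMap B (Localization.Away c))) = l ≫ j from hl.symm,
      Category.assoc, hjg]
    infer_instance
  haveI : Algebra.Etale A (Localization.Away c) := by
    rw [← RingHom.etale_algebraMap]
    exact (HasRingHomProperty.Spec_iff (P := @Etale)).1 he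
  exact (Algebra.basicOpen_subset_etaleLocus_iff (R := A) (f := c)).2 inferInstance hq

section Gen

variable {A : Type u} [CommRing A] [IsNoetherianRing A] [IsLocalRing A]

/-- Restriction along the identity. -/
def restrictId {X : Scheme.{u}} (W : FEt.Cat X) : (FEt.restrict (𝟙 X)).obj W ≅ W :=
  let f : W.left ⟶ X := W.hom
  MorphismProperty.Over.isoMk (@asIso _ _ _ _ (pullback.fst W.hom (𝟙 X))
      (pullback_fst_iso_of_right_iso f (𝟙 X))) (by
    show pullback.fst f (𝟙 X) ≫ f = pullback.snd f (𝟙 X)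
    rw [pullback.condition, Category.comp_id])

/-- An étale finite model is an extension. -/
theorem extends_of_etale_model {ι : Type} [Finite ι] {x : ι → A}
    (hx : Ideal.span (Set.range x) = IsLocalRing.maximalIdeal A)
    (V : FEt.Cat (FEt.puncturedSpec A : Scheme.{u})) {B : Type u} [CommRing B] [Algebra A B] [Module.Finite A B]
    [Algebra.Etale A B] (j : V.left ⟶ Spec (CommRingCat.of B)) [IsOpenImmersion j]
    (hjg : j ≫ Spec.map (CommRingCat.ofHom (algebraMap A B)) = V.hom ≫ (FEt.puncturedSpec A).ι)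
    (hjr : Set.range j = {q | ∃ i, algebraMap A B (x i) ∉ q.asIdeal}) :
    ∃ Y : FEt.Cat (Spec (CommRingCat.of A)), Nonempty ((FEt.restrict (FEt.puncturedSpec A).ι).obj Y ≅ V) := by
  obtain ⟨ε, hε⟩ := exists_iso_of_model (mem_puncturedSpec_iff hx) V.hom j hjg hjr
  exact ⟨MorphismProperty.Over.mk ⊤ (Spec.map (CommRingCat.ofHom (algebraMap A B)))
    ⟨(IsFinite.SpecMap_iff _).2 (RingHom.finite_algebraMap.2 inferInstance),
      (HasRingHomProperty.Spec_iff (P := @Etale)).2 (RingHom.etale_algebraMap.2 inferInstance)⟩,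
    ⟨MorphismProperty.Over.isoMk ε hε⟩⟩

/-- Finiteness and depth of the sections of a cover in depth two. -/
theorem sections_cover (hA : (2 : ℕ∞) ≤ LocCoh.depth A A) {n : ℕ} {x : Fin n → A}
    (hx : Ideal.span (Set.range x) = IsLocalRing.maximalIdeal A)
    (V : FEt.Cat (FEt.puncturedSpec A : Scheme.{u})) :
    letI : Algebra A Γ(V.left, ⊤) := (gΓ (V.hom ≫ (FEt.puncturedSpec A).ι)).hom.toAlgebra
    Module.Finite A Γ(V.left, ⊤) ∧ (2 : ℕ∞) ≤ LocCoh.depth A Γ(V.left, ⊤) ∧
      ∃ j : V.left ⟶ Spec Γ(V.left, ⊤), IsOpenImmersion j ∧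
        j ≫ Spec.map (CommRingCat.ofHom (algebraMap A Γ(V.left, ⊤))) = V.hom ≫ (FEt.puncturedSpec A).ι ∧
        Set.range j = {q | ∃ i, algebraMap A Γ(V.left, ⊤) (x i) ∉ q.asIdeal} := by
  haveI : IsFinite V.hom := V.prop.1
  haveI : Etale V.hom := V.prop.2
  letI : Algebra A Γ(V.left, ⊤) := (gΓ (V.hom ≫ (FEt.puncturedSpec A).ι)).hom.toAlgebra
  obtain ⟨rs, hreg, hmem, hlen⟩ := exists_regular_seq (A := A) (n := 2) hA
  obtain ⟨a, b, rfl⟩ : ∃ a b, rs = [a, b] := by
    match rs, hlen with
    | [a, b], _ => exact ⟨a, b, rfl⟩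
  have ha : a ∈ IsLocalRing.maximalIdeal A := hmem a (by simp)
  have hb : b ∈ IsLocalRing.maximalIdeal A := hmem b (by simp)
  rw [RingTheory.Sequence.isWeaklyRegular_cons_iff, RingTheory.Sequence.isWeaklyRegular_cons_iff] at hreg
  obtain ⟨hra, hrb, -⟩ := hreg
  have hrb' : IsSMulRegular (A ⧸ Ideal.span {a}) b := by
    refine (LinearEquiv.isSMulRegular_congr ?_ b).1 hrb
    refine Submodule.quotEquivOfEq _ _ ?_
    rw [← Submodule.ideal_span_singleton_smul, smul_eq_mul, Ideal.mul_top]
  have hU := mem_puncturedSpec_iff hx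
  obtain ⟨hfin, hmodel⟩ := sections_model hU V.hom (mem_radical_span hx ha) hra (kill_of_depth_two hx hA).2
  refine ⟨hfin, ?_, hmodel⟩
  refine le_trans (le_of_eq (by rfl)) (DepthLib.length_le_idealDepth (rs := [a, b]) ?_ hmem)
  rw [RingTheory.Sequence.isWeaklyRegular_cons_iff, RingTheory.Sequence.isWeaklyRegular_cons_iff]
  refine ⟨fun r s hrs => sub_eq_zero.1 (eq_zero_of_mul_eq_zero hU V.hom hra (by
      simp only [Algebra.smul_def] at hrs
      rw [mul_sub, sub_eq_zero]
      exact hrs)), ?_, RingTheory.Sequence.IsWeaklyRegular.nil _ _⟩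
  intro r s hrs
  obtain ⟨r, rfl⟩ := Submodule.Quotient.mk_surjective _ r
  obtain ⟨s, rfl⟩ := Submodule.Quotient.mk_surjective _ s
  have h1 : b • (r - s) ∈ a • (⊤ : Submodule A Γ(V.left, ⊤)) := by
    rw [smul_sub, ← Submodule.Quotient.eq]
    exact hrs
  rw [Submodule.mem_smul_pointwise_iff_exists] at h1
  obtain ⟨t, -, ht⟩ := h1
  obtain ⟨w, hw⟩ := exists_div hU V.hom hra hrb' (r := r - s) (t := t) (by
    simp only [Algebra.smul_def] at ht
    exact ht.symm)
  rw [Submodule.Quotient.eq, Submodule.mem_smul_pointwise_iff_exists]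
  exact ⟨w, trivial, by rw [Algebra.smul_def]; exact hw.symm⟩

end Gen

variable {A : Type u} [CommRing A] [IsRegularLocalRing A]

/-- The depth of a regular local ring. -/
theorem le_depth_of_regular {d : ℕ} (hd : (IsLocalRing.maximalIdeal A).spanFinrank = d) :
    (d : ℕ∞) ≤ LocCoh.depth A A := by
  obtain ⟨x, hx⟩ := RegLoc.exists_fin_generators A
  have h := RegLoc.isRegular_of_span_range _ A x hx rfl
  have h' := DepthLib.length_le_idealDepth (I := IsLocalRing.maximalIdeal A) h.toIsWeaklyRegular (fun r hr => by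
    obtain ⟨i, rfl⟩ := List.mem_ofFn.1 hr
    exact hx ▸ Ideal.subset_span ⟨i, rfl⟩)
  rwa [List.length_ofFn, hd] at h'

/-- Purity for a regular local ring of dimension two. -/
theorem purity_dim_two (hd : (IsLocalRing.maximalIdeal A).spanFinrank = 2) :
    FEt.PurityHolds A := by
  obtain ⟨n, x, hx⟩ := exists_generators A
  have hA : (2 : ℕ∞) ≤ LocCoh.depth A A := le_depth_of_regular hd
  refine ⟨fun V => ?_⟩
  haveI : IsFinite V.hom := V.prop.1
  haveI : Etale V.hom := V.prop.2
  letI : Algebra A Γ(V.left, ⊤) := (gΓ (V.hom ≫ (FEt.puncturedSpec A).ι)).hom.toAlgebra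
  obtain ⟨hfin, hdep, j, hj, hjg, hjr⟩ := sections_cover hA hx V
  haveI := hfin
  have hdim : ringKrullDim A = (2 : ℕ) := by
    rw [← IsRegularLocalRing.spanFinrank_maximalIdeal, hd]
  have hd2 : LocCoh.depth A A = ((2 : ℕ) : ℕ∞) := by
    refine le_antisymm ?_ hA
    have := DepthLib.depth_le_supportDim (R := A) (M := A)
    rw [Module.supportDim_self_eq_ringKrullDim, hdim] at this
    exact WithBot.coe_le_coe.1 this
  haveI := AB5.projective_of_depth_ge 2 A hd2 Γ(V.left, ⊤) ⟨_, RegLoc.pd_le_spanFinrank 2 A hd _⟩ hdep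
  haveI : Algebra.Etale A Γ(V.left, ⊤) := by
    refine Groth.Agent.S18423.result A Γ(V.left, ⊤) hdim.ge fun q hq => ?_
    obtain ⟨i, hi⟩ : ∃ i, algebraMap A Γ(V.left, ⊤) (x i) ∉ q.asIdeal := by
      by_contra hne
      push Not at hne
      refine hq ((IsLocalRing.maximalIdeal.isMaximal A).eq_of_le (Ideal.IsPrime.ne_top inferInstance) ?_).symm
      rw [← hx, Ideal.span_le]
      rintro _ ⟨i, rfl⟩
      exact hne i
    exact isEtaleAt_of_model (V.hom ≫ (FEt.puncturedSpec A).ι) j hjg _
      (fun p hp => by rw [hjr]; exact ⟨i, hp⟩) q hi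
  exact extends_of_etale_model hx V j hjg hjr

/-- The inductive step: a cover extends if purity holds for a regular hypersurface section. -/
theorem purity_step {A : Type u} [CommRing A] [IsLocalRing A] [IsNoetherianRing A] (hA : (3 : ℕ∞) ≤ LocCoh.depth A A) {f : A}
    (hf : f ∈ IsLocalRing.maximalIdeal A) [IsLocalRing (A ⧸ Ideal.span {f})]
    (h : FEt.PurityHolds (A ⧸ Ideal.span {f})) : FEt.PurityHolds A := by
  refine ⟨fun V => ?_⟩
  let qA := Spec.map (CommRingCat.ofHom (Ideal.Quotient.mk (Ideal.span {f})))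
  let U' := FEt.puncturedSpec (A ⧸ Ideal.span {f})
  have hcl : qA (IsLocalRing.closedPoint (A ⧸ Ideal.span {f})) = IsLocalRing.closedPoint A := by
    refine PrimeSpectrum.ext ?_
    haveI : (IsLocalRing.maximalIdeal (A ⧸ Ideal.span {f})).IsMaximal := inferInstance
    exact IsLocalRing.eq_maximalIdeal (Ideal.comap_isMaximal_of_surjective (K := IsLocalRing.maximalIdeal (A ⧸ Ideal.span {f}))
      (Ideal.Quotient.mk (Ideal.span {f})) Ideal.Quotient.mk_surjective)
  have hr : Set.range (pullback.snd (FEt.puncturedSpec A).ι qA) = Set.range U'.ι := by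
    rw [Scheme.Pullback.range_snd, Scheme.Opens.range_ι, Scheme.Opens.range_ι]
    ext q
    show ¬ qA q = IsLocalRing.closedPoint A ↔ ¬ q = IsLocalRing.closedPoint _
    refine not_congr ⟨fun h1 => ?_, fun h1 => h1 ▸ hcl⟩
    exact PrimeSpectrum.comap_injective_of_surjective _ Ideal.Quotient.mk_surjective (h1.trans hcl.symm)
  let ψ : pullback (FEt.puncturedSpec A).ι qA ≅ (U' : Scheme.{u}) :=
    IsOpenImmersion.isoOfRangeEq (pullback.snd (FEt.puncturedSpec A).ι qA) U'.ι hr
  have hψ : ψ.hom ≫ U'.ι = pullback.snd _ qA := IsOpenImmersion.isoOfRangeEq_hom_fac _ _ _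
  haveI : (FEt.restrict U'.ι).EssSurj := h
  let W := (FEt.restrict (pullback.fst (FEt.puncturedSpec A).ι qA)).obj V
  let Y₀ := (FEt.restrict U'.ι).objPreimage ((FEt.restrict ψ.inv).obj W)
  let e : (FEt.restrict (pullback.snd (FEt.puncturedSpec A).ι qA)).obj Y₀ ≅ W :=
    (MorphismProperty.Over.pullbackCongr hψ.symm).app Y₀ ≪≫ (restrictComp ψ.hom U'.ι).app Y₀ ≪≫
      (FEt.restrict ψ.hom).mapIso ((FEt.restrict U'.ι).objObjPreimageIso _) ≪≫
      (restrictComp ψ.hom ψ.inv).symm.app W ≪≫ (MorphismProperty.Over.pullbackCongr ψ.hom_inv_id).app W ≪≫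
      restrictId W
  exact extends_of_depth_three hA f hf V Y₀ ⟨e⟩

/-- **Purity** for regular local rings of dimension at least two. -/
theorem purity_regular : ∀ (d : ℕ) (A : Type u) [CommRing A] [IsRegularLocalRing A],
    (IsLocalRing.maximalIdeal A).spanFinrank = d → 2 ≤ d → FEt.PurityHolds A := by
  intro d
  induction d with
  | zero => intro A _ _ _ h; omega
  | succ d ih =>
    intro A _ _ hd h2
    rcases Nat.lt_or_ge d 2 with hd2 | hd2
    · exact purity_dim_two (by omega)
    have hF : ¬ IsField A := fun h => by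
      rw [RegLoc.spanFinrank_maximalIdeal_eq_zero_iff.2 h] at hd; omega
    obtain ⟨f, hf, hf2, -⟩ := RegLoc.exists_mem_notMem_sq_notMem_minimalPrimes hF
    obtain ⟨_, hq⟩ := RegLoc.quotient_span_singleton hf hf2
    refine purity_step (le_trans ?_ (le_depth_of_regular hd)) hf (ih _ (by omega) hd2)
    exact_mod_cast (by omega : 3 ≤ d + 1)

end Groth.Agent.Pur25
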