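import Groth.Agent.Lib.Pur25.Branch

/-!
# Purity of the branch locus for local rings
-/

set_option autoImplicit false

universe u

open TensorProduct IsLocalRing

noncomputable section

namespace Groth.Agent.Pur25

/-- Purity of the branch locus for a normal local ring essentially finite over a regular local ring. -/
theorem flat_unramified_of_codim_one {A O : Type u} [CommRing A] [IsRegularLocalRing A] [CommRing O] [IsLocalRing O]
    [IsDomain O] [IsIntegrallyClosed O] [Algebra A O] (C : Subalgebra A O) [Module.Finite A C]
    (hloc : ∀ z : O, ∃ s t : C, IsUnit (t : O) ∧ z * t = s) (hdim : ringKrullDim O = ringKrullDim A)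
    (h1 : (1 : WithBot ℕ∞) ≤ ringKrullDim O)
    (h : ∀ (P : Ideal O) (_ : P.IsPrime), P.height = 1 → Algebra.FormallyUnramified A (Localization.AtPrime P)) :
    Module.Flat A O ∧ Algebra.FormallyUnramified A O := by
  haveI := RegLoc.isDomain A
  haveI : IsNoetherianRing C := IsNoetherianRing.of_finite A C
  haveI : Algebra.IsIntegral A C := Algebra.IsIntegral.of_finite A C
  let q : Ideal C := (maximalIdeal O).comap C.val.toRingHom
  haveI : IsLocalization.AtPrime O q := by
    refine (isLocalization_iff _ _).2 ⟨fun y => ?_, fun z => ?_, fun {a b} hab => ⟨1, ?_⟩⟩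
    · by_contra hn
      exact y.2 ((mem_maximalIdeal _).2 hn)
    · obtain ⟨s, t, ht, hst⟩ := hloc z
      exact ⟨(s, ⟨t, fun hm => (mem_maximalIdeal _).1 hm ht⟩), hst⟩
    · exact congrArg (fun z : C => (1 : C) * z) (Subtype.ext hab)
  have hqh : ringKrullDim O = q.height := IsLocalization.AtPrime.ringKrullDim_eq_height q O
  -- the structure map is injective
  have hinj : Function.Injective (algebraMap A C) := by
    rw [injective_iff_map_eq_zero]
    intro a ha
    by_contra ha0
    let J := RingHom.ker (algebraMap A C)
    have haJ : a ∈ J := ha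
    letI : Algebra (A ⧸ J) C := (RingHom.kerLift (algebraMap A C)).toAlgebra
    haveI : IsScalarTower A (A ⧸ J) C := IsScalarTower.of_algebraMap_eq fun _ => rfl
    haveI : Algebra.IsIntegral (A ⧸ J) C := Algebra.IsIntegral.tower_top A
    have h2 : ringKrullDim C = ringKrullDim (A ⧸ J) :=
      VarDim.ringKrullDim_eq_of_isIntegral (RingHom.kerLift_injective _)
    have h3 : ringKrullDim (A ⧸ J) + 1 ≤ ringKrullDim A :=
      (add_le_add_left (ringKrullDim_le_of_surjective _ (Ideal.Quotient.factor_surjective
        ((Ideal.span_singleton_le_iff_mem J).2 haJ))) 1).trans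
        (ringKrullDim_quotient_succ_le_of_nonZeroDivisor (mem_nonZeroDivisors_of_ne_zero ha0))
    have h4 : (q.height : WithBot ℕ∞) ≤ ringKrullDim C := Ideal.height_le_ringKrullDim_of_ne_top Ideal.IsPrime.ne_top'
    rw [← hqh, hdim, h2] at h4
    obtain ⟨d, hd⟩ := RegLoc.exists_dim_eq_nat (R := A)
    rw [hd] at h3 h4
    have h5 : ((d : ℕ) : WithBot ℕ∞) + 1 ≤ (d : ℕ) := (add_le_add_left h4 1).trans h3
    have : (d + 1 : ℕ) ≤ d := by exact_mod_cast h5
    omega
  haveI : IsIntegrallyClosed (Localization.AtPrime q) :=
    IsIntegrallyClosed.of_equiv ((IsLocalization.algEquiv q.primeCompl (Localization.AtPrime q) O).toRingEquiv.symm)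
  have h1q : 1 ≤ q.height := by
    rw [hqh] at h1
    exact_mod_cast h1
  haveI het : Algebra.IsEtaleAt A q := by
    refine isEtaleAt_of_codim_one hinj q h1q fun P hP hle hP1 => ?_
    have hdisj : Disjoint (q.primeCompl : Set C) (P : Set C) := Set.disjoint_left.2 fun z hz hzP => hz (hle hzP)
    haveI : (P.map (algebraMap C O)).IsPrime := IsLocalization.isPrime_of_isPrime_disjoint q.primeCompl O P hP hdisj
    have hcomap : (P.map (algebraMap C O)).comap (algebraMap C O) = P :=
      IsLocalization.comap_map_of_isPrime_disjoint q.primeCompl O hP hdisj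
    haveI : IsLocalization.AtPrime (Localization.AtPrime (P.map (algebraMap C O))) P := by
      have := IsLocalization.isLocalization_isLocalization_atPrime_isLocalization q.primeCompl
        (Localization.AtPrime (P.map (algebraMap C O))) (P.map (algebraMap C O))
      simpa only [hcomap] using this
    haveI := h (P.map (algebraMap C O)) inferInstance (by
      rw [← hP1, ← IsLocalization.height_under (R := C) q.primeCompl (P.map (algebraMap C O)), Ideal.under_def, hcomap])
    exact Algebra.FormallyUnramified.of_equiv (A := Localization.AtPrime (P.map (algebraMap C O))) (B := Localization.AtPrime P)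
      ((IsLocalization.algEquiv P.primeCompl (Localization.AtPrime P)
        (Localization.AtPrime (P.map (algebraMap C O)))).restrictScalars A).symm
  let e : Localization.AtPrime q ≃ₐ[A] O :=
    (IsLocalization.algEquiv q.primeCompl (Localization.AtPrime q) O).restrictScalars A
  haveI : Algebra.FinitePresentation A C := Algebra.FinitePresentation.of_finiteType.1 inferInstance
  refine ⟨?_, Algebra.FormallyUnramified.of_equiv (A := Localization.AtPrime q) (B := O) e⟩
  obtain ⟨g, hg, _⟩ := Algebra.exists_etale_of_isEtaleAt (R := A) q
  have hle : Submonoid.powers g ≤ q.primeCompl :=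
    Submonoid.powers_le.2 hg
  letI : Algebra (Localization.Away g) (Localization.AtPrime q) :=
    IsLocalization.localizationAlgebraOfSubmonoidLe _ _ (Submonoid.powers g) q.primeCompl hle
  haveI := IsLocalization.localization_isScalarTower_of_submonoid_le (Localization.Away g)
    (Localization.AtPrime q) (Submonoid.powers g) q.primeCompl hle
  haveI := IsLocalization.isLocalization_of_submonoid_le (Localization.Away g)
    (Localization.AtPrime q) (Submonoid.powers g) q.primeCompl hle
  haveI : IsScalarTower A (Localization.Away g) (Localization.AtPrime q) := IsScalarTower.to₁₃₄ A C _ _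
  haveI : Module.Flat (Localization.Away g) (Localization.AtPrime q) :=
    IsLocalization.flat _ (q.primeCompl.map (algebraMap C (Localization.Away g)))
  haveI : Module.Flat A (Localization.AtPrime q) := Module.Flat.trans A (Localization.Away g) _
  exact Module.Flat.of_linearEquiv e.symm.toLinearEquiv

end Groth.Agent.Pur25
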