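import Groth.Agent.Lib.Pur25.Fam
import Groth.Agent.Lib.LocCoh.Flat

/-!
# Killing families and cocycles from killing local cohomology
-/

set_option autoImplicit false

universe u

open Groth.Agent.InjHullLib Groth.Agent.LocCohLib Finset
open scoped TensorProduct

namespace Groth.Agent.Pur25

variable {A : Type u} [CommRing A] {ι : Type} [Finite ι] {x : ι → A}
  {M : Type u} [AddCommGroup M] [Module A M]

/-- Elements supported on `V(x)` are the power torsion elements. -/
theorem isTors_iff_mem_powTors {v : M} : IsTors x v ↔ v ∈ powTors (Ideal.span (Set.range x)) M := by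
  rw [mem_powTors_iff]
  constructor
  · intro hv
    choose p hp using hv
    cases nonempty_fintype ι
    let P := univ.sup p
    have hle : (Ideal.span (Set.range x)) ≤ (Ideal.span (Set.range fun i => x i ^ P)).radical := by
      refine Ideal.span_le.2 ?_
      rintro _ ⟨i, rfl⟩
      exact ⟨P, Ideal.subset_span ⟨i, rfl⟩⟩
    obtain ⟨n, hn⟩ := Ideal.exists_pow_le_of_le_radical_of_fg hle (Submodule.fg_span (Set.finite_range x))
    refine ⟨n, fun r hr => ?_⟩
    obtain ⟨c, hc⟩ := Ideal.mem_span_range_iff_exists_fun.1 (hn hr)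
    rw [← hc, sum_smul]
    refine sum_eq_zero fun i _ => ?_
    have hle' : p i ≤ P := le_sup (f := p) (mem_univ i)
    rw [mul_smul, ← Nat.sub_add_cancel hle', pow_add, mul_smul, hp, smul_zero, smul_zero]
  · rintro ⟨n, hn⟩ i
    have hxi : x i ∈ Ideal.span (Set.range x) := Ideal.subset_span ⟨i, rfl⟩
    exact ⟨n, hn _ (Ideal.pow_mem_pow hxi n)⟩

theorem exists_uniform {κ : Type} [Finite κ] {y : κ → A} {v : κ → M} (h : ∀ i, ∃ p : ℕ, y i ^ p • v i = 0) :
    ∃ P : ℕ, ∀ i, y i ^ P • v i = 0 := by
  choose p hp using h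
  cases nonempty_fintype κ
  refine ⟨univ.sup p, fun i => ?_⟩
  rw [← Nat.sub_add_cancel (le_sup (f := p) (mem_univ i)), pow_add, mul_smul, hp, smul_zero]

/-- A projection killing the torsion of an injective module. -/
theorem exists_projection [IsNoetherianRing A] (E : Type u) [AddCommGroup E] [Module A E]
    (hE : Module.Injective A E) (x : ι → A) :
    ∃ π : E →ₗ[A] E, (∀ e, IsTors x (e - π e)) ∧ ∀ e, IsTors x (π e) → π e = 0 := by
  let J := Ideal.span (Set.range x)
  have hT := Module.Baer.of_injective (injective_powTors hE J)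
  obtain ⟨r, hr⟩ := hT.extension_property (powTors J E).subtype (Submodule.injective_subtype _) LinearMap.id
  refine ⟨LinearMap.id - (powTors J E).subtype ∘ₗ r, fun e => ?_, fun e he => ?_⟩
  · refine isTors_iff_mem_powTors.2 ?_
    show e - (e - (r e : E)) ∈ powTors J E
    rw [sub_sub_cancel]
    exact (r e).2
  · have h1 : e - (r e : E) ∈ powTors J E := isTors_iff_mem_powTors.1 he
    have h2 : e ∈ powTors J E := by
      have := add_mem h1 (r e).2
      rwa [sub_add_cancel] at this
    show e - (r e : E) = 0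
    have h3 : r e = (⟨e, h2⟩ : powTors J E) := LinearMap.congr_fun hr ⟨e, h2⟩
    rw [h3, sub_self]

/-- `H⁰` of the complement with injective coefficients. -/
theorem kill0_injective [IsNoetherianRing A] {E : Type u} [AddCommGroup E] [Module A E]
    (hE : Module.Injective A E) : Kill0 x E (1 : A) := by
  intro k m hm
  cases nonempty_fintype ι
  obtain ⟨π, hπ₁, hπ₂⟩ := exists_projection E hE x
  let L : (ι → A) →ₗ[A] A := Fintype.linearCombination A (fun i => x i ^ k)
  let φ : (ι → A) →ₗ[A] E := π ∘ₗ Fintype.linearCombination A m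
  have hle : LinearMap.ker L ≤ LinearMap.ker φ := fun c hc => by
    have hc : ∑ i, c i • x i ^ k = 0 := hc
    show π (∑ i, c i • m i) = 0
    refine hπ₂ _ fun j => ⟨k, ?_⟩
    rw [← map_smul, smul_sum]
    have : ∑ i, x j ^ k • c i • m i = (∑ i, c i • x i ^ k) • m j := by
      rw [sum_smul]
      exact sum_congr rfl fun i _ => by rw [smul_comm, hm i j, smul_eq_mul, mul_smul]
    rw [this, hc, zero_smul, map_zero]
  obtain ⟨l, hl⟩ := (Module.Baer.of_injective hE).extension_property ((LinearMap.ker L).liftQ L le_rfl)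
    (LinearMap.ker_eq_bot.1 (Submodule.ker_liftQ_eq_bot _ _ _ le_rfl)) ((LinearMap.ker L).liftQ φ hle)
  classical
  have hb : ∀ i, x i ^ k • l 1 = π (m i) := fun i => by
    have := LinearMap.congr_fun hl (Submodule.Quotient.mk (Pi.single i 1))
    simp only [LinearMap.comp_apply, Submodule.liftQ_apply, L, φ, Fintype.linearCombination_apply_single, one_smul] at this
    rw [← this, ← map_smul, smul_eq_mul, mul_one]
  obtain ⟨P, hP⟩ := exists_uniform (y := x) (v := fun i => m i - π (m i)) fun i => hπ₁ (m i) i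
  exact ⟨l 1, P, fun i => by rw [one_smul, hb i]; exact hP i⟩

/-- `H¹` of the complement with injective coefficients. -/
theorem kill1_injective [IsNoetherianRing A] {E : Type u} [AddCommGroup E] [Module A E]
    (hE : Module.Injective A E) : Kill1 x E (1 : A) := by
  intro k m hm
  classical
  cases nonempty_fintype ι
  obtain ⟨π, hπ₁, hπ₂⟩ := exists_projection E hE x
  let D : (ι × ι → A) →ₗ[A] (ι → A) :=
    Fintype.linearCombination A (fun q : ι × ι => x q.2 ^ k • Pi.single (M := fun _ => A) q.1 (1 : A) -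
      x q.1 ^ k • Pi.single (M := fun _ => A) q.2 (1 : A))
  let φ : (ι × ι → A) →ₗ[A] E := π ∘ₗ Fintype.linearCombination A (fun q : ι × ι => m q.1 q.2)
  have hle : LinearMap.ker D ≤ LinearMap.ker φ := fun a ha => by
    show π (∑ q, a q • m q.1 q.2) = 0
    refine hπ₂ _ fun l => ⟨k, ?_⟩
    let T : (ι → A) →ₗ[A] E := Fintype.linearCombination A (fun i => m i l)
    have h1 : T (D a) = ∑ q, x l ^ k • a q • m q.1 q.2 := by
      show T (∑ q, a q • _) = _
      rw [map_sum]
      refine sum_congr rfl fun q _ => ?_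
      rw [map_smul, map_sub, map_smul, map_smul]
      simp only [T, Fintype.linearCombination_apply_single, one_smul]
      rw [smul_comm (x l ^ k) (a q)]
      congr 1
      refine sub_eq_zero.1 ?_
      rw [← neg_eq_zero, ← hm q.1 q.2 l]
      abel
    rw [← map_smul, smul_sum, ← h1, LinearMap.mem_ker.1 ha, map_zero, map_zero]
  obtain ⟨l, hl⟩ := (Module.Baer.of_injective hE).extension_property ((LinearMap.ker D).liftQ D le_rfl)
    (LinearMap.ker_eq_bot.1 (Submodule.ker_liftQ_eq_bot _ _ _ le_rfl)) ((LinearMap.ker D).liftQ φ hle)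
  let t : ι → E := fun i => l (Pi.single (M := fun _ => A) i 1)
  have ht : ∀ i j, π (m i j) = x j ^ k • t i - x i ^ k • t j := fun i j => by
    have := LinearMap.congr_fun hl (Submodule.Quotient.mk (Pi.single (i, j) 1))
    simp only [LinearMap.comp_apply, Submodule.liftQ_apply, D, φ, Fintype.linearCombination_apply_single, one_smul] at this
    rw [← this]
    simp only [t, map_sub, map_smul]
  obtain ⟨P, hP⟩ := exists_uniform (y := fun q : ι × ι => x q.1 * x q.2) (v := fun q => m q.1 q.2 - π (m q.1 q.2))
    fun q => by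
      obtain ⟨p, hp⟩ := hπ₁ (m q.1 q.2) q.1
      exact ⟨p, by rw [mul_pow, mul_comm, mul_smul, hp, smul_zero]⟩
  refine ⟨P, fun i => x i ^ P • t i, fun i j => ?_⟩
  have := hP (i, j)
  simp only [smul_sub, sub_eq_zero] at this
  rw [one_smul, this, ht]
  simp only [smul_sub, smul_smul]
  ring_nf

section Seq

variable {E C : Type u} [AddCommGroup E] [Module A E] [AddCommGroup C] [Module A C]
  {f : M →ₗ[A] E} {q : E →ₗ[A] C} (hf : Function.Injective f) (hq : Function.Surjective q)
  (hfq : Function.Exact f q)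

include hf hq hfq

/-- Killing `H⁰` of the left term. -/
theorem kill0_left (h0 : Kill0 x E (1 : A)) {g : A}
    (hg : ∀ c : C, IsTors x c → ∃ b : E, IsTors x b ∧ q b = g • c) : Kill0 x M g := by
  intro k m hm
  obtain ⟨b, p, hb⟩ := h0 k (fun i => f (m i)) fun i j => by simp only [← map_smul, hm i j]
  have hc : IsTors x (q b) := fun i => ⟨p + k, by
    have := congrArg q (hb i)
    simp only [one_smul, map_smul, map_sub, map_zero, hfq.apply_apply_eq_zero, zero_sub, smul_neg, neg_eq_zero] at this
    rw [pow_add, mul_smul]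
    exact this⟩
  obtain ⟨t, ht, htc⟩ := hg _ hc
  obtain ⟨b₀, hb₀⟩ := (hfq (g • b - t)).1 (by rw [map_sub, map_smul, htc, sub_self])
  obtain ⟨p', hp'⟩ := exists_uniform (y := x) (v := fun _ => t) fun i => ht i
  refine ⟨b₀, p' + p, fun i => hf ?_⟩
  have h1 := congrArg (fun z => g • x i ^ p' • z) (hb i)
  simp only [smul_zero, one_smul] at h1
  rw [map_zero, map_smul, map_sub, map_smul, map_smul, hb₀]
  rw [← h1]
  have h2 := hp' i
  simp only [smul_sub, smul_smul]
  rw [show x i ^ (p' + p) * (x i ^ k * g) = g * (x i ^ p' * (x i ^ p * x i ^ k)) by ring,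
    show x i ^ (p' + p) * g = g * (x i ^ p' * x i ^ p) by ring,
    show x i ^ (p' + p) * x i ^ k = (x i ^ p * x i ^ k) * x i ^ p' by ring, mul_smul _ (x i ^ p') t, h2, smul_zero,
    sub_zero]

/-- Killing `H¹` of the left term. -/
theorem kill1_left (h1 : Kill1 x E (1 : A)) {g : A} (hg : Kill0 x C g) : Kill1 x M g := by
  intro k m hm
  obtain ⟨p, t, ht⟩ := h1 k (fun i j => f (m i j)) fun i j l => by
    have := congrArg f (hm i j l)
    simpa only [map_add, map_sub, map_smul, map_zero] using this
  have hfam : IsFam x (k + p) fun i => q (t i) := fun i j => by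
    have := congrArg q (ht i j)
    simp only [one_smul, map_smul, map_sub, hfq.apply_apply_eq_zero, smul_zero] at this
    exact sub_eq_zero.1 this.symm
  obtain ⟨c, p', hc⟩ := hg _ _ hfam
  obtain ⟨e, rfl⟩ := hq c
  have hs : ∀ i, ∃ w, f w = x i ^ p' • (g • t i - x i ^ (k + p) • e) := fun i =>
    (hfq _).1 (by simp only [map_smul, map_sub]; exact hc i)
  choose w hw using hs
  refine ⟨p + p', w, fun i j => hf ?_⟩
  simp only [map_smul, map_sub, hw]
  have h2 := ht i j
  simp only [one_smul] at h2
  rw [pow_add, mul_smul, smul_comm ((x i * x j) ^ p') g, smul_comm ((x i * x j) ^ p) g, smul_comm ((x i * x j) ^ p),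
    h2]
  simp only [smul_sub, smul_smul]
  ring_nf
  abel

end Seq

/-- Elements killing `H¹` and `H²` kill the cokernel of `M → H⁰` and `H¹` of the complement. -/
theorem kill0_of_H_one [IsNoetherianRing A] {g : A}
    (hg : ∀ z : LocCoh.H (Ideal.span (Set.range x)) 1 M, g • z = 0) : Kill0 x M g := by
  obtain ⟨E, _, _, f, hE, hf, hac⟩ := exists_injective_extension (R := A) M
  let q : E →ₗ[A] E ⧸ LinearMap.range f := Submodule.mkQ _
  have hq : Function.Surjective q := Submodule.mkQ_surjective _
  have hfq : Function.Exact f q := f.exact_map_mkQ_range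
  refine kill0_left hf hq hfq (kill0_injective hE) fun c hc => ?_
  obtain ⟨d, -, hd⟩ := exists_h1Map (Ideal.span (Set.range x)) hf hq hfq (hac _ 0)
  obtain ⟨b, hb, hbc⟩ := (hd (g • ⟨c, isTors_iff_mem_powTors.1 hc⟩)).1 (by rw [map_smul, hg])
  exact ⟨b, isTors_iff_mem_powTors.2 hb, hbc⟩

theorem kill1_of_H_two [IsNoetherianRing A] {g : A}
    (hg : ∀ z : LocCoh.H (Ideal.span (Set.range x)) 2 M, g • z = 0) : Kill1 x M g := by
  obtain ⟨E, _, _, f, hE, hf, hac⟩ := exists_injective_extension (R := A) M
  let q : E →ₗ[A] E ⧸ LinearMap.range f := Submodule.mkQ _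
  have hq : Function.Surjective q := Submodule.mkQ_surjective _
  have hfq : Function.Exact f q := f.exact_map_mkQ_range
  refine kill1_left hf hq hfq (kill1_injective hE) (kill0_of_H_one fun z => ?_)
  let e := δEquiv (Ideal.span (Set.range x)) hf hq hfq 1 (hac _ 0) (hac _ 1)
  exact e.injective (by rw [map_smul, map_zero]; exact hg (e z))

/-- Killing local cohomology of the ring passes to flat algebras. -/
theorem H_smul_eq_zero_of_flat [IsNoetherianRing A] (S : Type u) [CommRing S] [IsNoetherianRing S] [Algebra A S]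
    [Module.Flat A S] (I : Ideal A) (i : ℕ) {g : A} (hg : ∀ z : LocCoh.H I i A, g • z = 0)
    (z : LocCoh.H (I.map (algebraMap A S)) i S) : algebraMap A S g • z = 0 := by
  obtain ⟨e⟩ := nonempty_baseChange_H S I i A
  let e' := e.trans (hcongr (I.map (algebraMap A S)) i (TensorProduct.AlgebraTensorModule.rid A S S))
  obtain ⟨w, rfl⟩ := e'.surjective z
  rw [← map_smul, ← map_zero e']
  congr 1
  induction w using TensorProduct.induction_on with
  | zero => rw [smul_zero]
  | tmul s y =>
    rw [TensorProduct.smul_tmul', smul_eq_mul, ← Algebra.smul_def, TensorProduct.smul_tmul, hg,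
      TensorProduct.tmul_zero]
  | add a b ha hb => rw [smul_add, ha, hb, add_zero]

end Groth.Agent.Pur25
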