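import Groth.Agent.Lib.Pur25.Fam
import Groth.Agent.Lib.Depth.More
import Groth.Agent.Lib.Depth.CM
import Mathlib.LinearAlgebra.Finsupp.Pi

/-!
# Killing elements from depth
-/

set_option autoImplicit false

universe u

namespace Groth.Agent.Pur25

open RingTheory.Sequence

variable {A : Type u} [CommRing A] [IsNoetherianRing A] [IsLocalRing A]

theorem exists_generators (A : Type u) [CommRing A] [IsNoetherianRing A] [IsLocalRing A] :
    ∃ (n : ℕ) (x : Fin n → A), Ideal.span (Set.range x) = IsLocalRing.maximalIdeal A :=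
  Submodule.fg_iff_exists_fin_generating_family.1 (IsNoetherian.noetherian (IsLocalRing.maximalIdeal A))

variable {ι : Type} [Finite ι] {x : ι → A}

theorem mem_radical_span (hx : Ideal.span (Set.range x) = IsLocalRing.maximalIdeal A) {a : A}
    (ha : a ∈ IsLocalRing.maximalIdeal A) : a ∈ (Ideal.span (Set.range x)).radical :=
  Ideal.le_radical (hx ▸ ha)

theorem torsFree_and_kill0_of_depth_two (hx : Ideal.span (Set.range x) = IsLocalRing.maximalIdeal A)
    (M : Type u) [AddCommGroup M] [Module A M] (rs : List A) (hreg : IsWeaklyRegular M rs)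
    (hmem : ∀ r ∈ rs, r ∈ IsLocalRing.maximalIdeal A) (hlen : 2 ≤ rs.length) :
    TorsFree x M ∧ Kill0 x M (1 : A) := by
  obtain ⟨a, b, rs, rfl⟩ : ∃ a b t, rs = a :: b :: t := by
    match rs, hlen with
    | a :: b :: t, _ => exact ⟨a, b, t, rfl⟩
  rw [isWeaklyRegular_cons_iff, isWeaklyRegular_cons_iff] at hreg
  have ha := mem_radical_span hx (hmem a (by simp))
  exact ⟨torsFree_of_isSMulRegular ha hreg.1,
    kill0_one_of_torsFree ha hreg.1 (torsFree_of_isSMulRegular (mem_radical_span hx (hmem b (by simp))) hreg.2.1)⟩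

theorem exists_regular_seq {n : ℕ} (h : (n : ℕ∞) ≤ LocCoh.depth A A) :
    ∃ rs : List A, IsWeaklyRegular A rs ∧ (∀ r ∈ rs, r ∈ IsLocalRing.maximalIdeal A) ∧ rs.length = n :=
  DepthLib.exists_isWeaklyRegular_of_le_idealDepth (R := A) (M := A)
    (DepthLib.smul_top_ne_top (IsLocalRing.maximalIdeal.isMaximal A).ne_top) h

theorem kill_of_depth_two (hx : Ideal.span (Set.range x) = IsLocalRing.maximalIdeal A)
    (h : (2 : ℕ∞) ≤ LocCoh.depth A A) : TorsFree x A ∧ Kill0 x A (1 : A) := by
  obtain ⟨rs, h1, h2, h3⟩ := exists_regular_seq (n := 2) h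
  exact torsFree_and_kill0_of_depth_two hx A rs h1 h2 h3.ge

theorem kill_of_depth_three (hx : Ideal.span (Set.range x) = IsLocalRing.maximalIdeal A)
    (h : (3 : ℕ∞) ≤ LocCoh.depth A A) : Kill0 x A (1 : A) ∧ Kill1 x A (1 : A) := by
  obtain ⟨rs, h1, h2, h3⟩ := exists_regular_seq (n := 3) h
  refine ⟨(torsFree_and_kill0_of_depth_two hx A rs h1 h2 (by omega)).2, ?_⟩
  obtain ⟨a, t, rfl⟩ : ∃ a t, rs = a :: t := by
    match rs, h3 with
    | a :: t, _ => exact ⟨a, t, rfl⟩
  rw [isWeaklyRegular_cons_iff] at h1
  exact kill1_one_of_kill0 (mem_radical_span hx (h2 a (by simp))) h1.1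
    (torsFree_and_kill0_of_depth_two hx _ t h1.2 (fun r hr => h2 r (by simp [hr])) (by simp at h3; omega)).2

omit [IsLocalRing A] in
/-- Splittings of a presentation of a finite module which is projective off `V(x)`. -/
theorem exists_split (x : ι → A) (B : Type u) [AddCommGroup B] [Module A B] [Module.Finite A B]
    (hproj : ∀ i, Module.Projective (Localization (Submonoid.powers (x i)))
      (LocalizedModule (Submonoid.powers (x i)) B)) :
    ∃ (r e : ℕ) (G : (Fin r → A) →ₗ[A] B) (s : ι → B →ₗ[A] (Fin r → A)),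
      ∀ i b, G (s i b) = x i ^ e • b := by
  obtain ⟨r, G, hG⟩ := Module.Finite.exists_fin' A B
  have : Module.FinitePresentation A B := Module.finitePresentation_of_finite A B
  have key : ∀ i, ∃ (e : ℕ) (s : B →ₗ[A] (Fin r → A)), ∀ b, G (s b) = x i ^ e • b := by
    intro i
    let S := Submonoid.powers (x i)
    have := hproj i
    obtain ⟨σ, hσ⟩ := Module.projective_lifting_property (LocalizedModule.map S G) LinearMap.id
      (LocalizedModule.map_surjective S G hG)
    obtain ⟨s, ⟨_, e, rfl⟩, hs⟩ := Module.FinitePresentation.exists_lift_of_isLocalizedModule S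
      (LocalizedModule.mkLinearMap S (Fin r → A)) ((σ.restrictScalars A) ∘ₗ LocalizedModule.mkLinearMap S B)
    have h1 : ∀ b, LocalizedModule.mkLinearMap S B (G (s b)) = LocalizedModule.mkLinearMap S B (x i ^ e • b) := by
      intro b
      have h2 := congrArg (fun φ => LocalizedModule.map S G φ) (LinearMap.congr_fun hs b)
      simp only [LinearMap.comp_apply, LinearMap.smul_apply, LinearMap.restrictScalars_apply] at h2
      rw [LocalizedModule.mkLinearMap_apply, LocalizedModule.map_mk] at h2
      rw [LocalizedModule.mkLinearMap_apply, h2, LinearMap.map_smul_of_tower,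
        show LocalizedModule.map S G (σ (LocalizedModule.mkLinearMap S B b)) = LocalizedModule.mkLinearMap S B b from
          LinearMap.congr_fun hσ _]
      exact (map_smul (LocalizedModule.mkLinearMap S B) (x i ^ e) b).symm
    obtain ⟨t, ht⟩ : ∃ t : ℕ, ∀ b, x i ^ t • (G (s b) - x i ^ e • b) = 0 := by
      obtain ⟨k, g, hg⟩ := Module.Finite.exists_fin (R := A) (M := B)
      choose t ht using fun l => (IsLocalizedModule.eq_iff_exists S (LocalizedModule.mkLinearMap S B)).1 (h1 (g l))
      choose n hn using fun l => (t l).2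
      refine ⟨Finset.univ.sup n, fun b => ?_⟩
      have : b ∈ Submodule.span A (Set.range g) := hg ▸ Submodule.mem_top
      induction this using Submodule.span_induction with
      | mem b hb =>
        obtain ⟨l, rfl⟩ := hb
        have h3 := ht l
        rw [Submonoid.smul_def, Submonoid.smul_def, show (t l : A) = x i ^ n l from (hn l).symm] at h3
        rw [← Nat.sub_add_cancel (Finset.le_sup (f := n) (Finset.mem_univ l)), pow_add, mul_smul,
          smul_sub (x i ^ n l), h3, sub_self, smul_zero]
      | zero => simp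
      | add a b _ _ ha hb =>
        rw [map_add, map_add, smul_add, add_sub_add_comm, smul_add, ha, hb, add_zero]
      | smul c a _ ha =>
        rw [map_smul, map_smul, smul_comm (x i ^ e) c, ← smul_sub, smul_comm, ha, smul_zero]
    refine ⟨t + e, x i ^ t • s, fun b => ?_⟩
    have h3 := ht b
    rw [smul_sub, sub_eq_zero] at h3
    rw [LinearMap.smul_apply, map_smul, h3, pow_add, mul_smul]
  choose e s hs using key
  cases nonempty_fintype ι
  refine ⟨r, Finset.univ.sup e, G, fun i => x i ^ (Finset.univ.sup e - e i) • s i, fun i b => ?_⟩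
  rw [LinearMap.smul_apply, map_smul, hs, smul_smul, ← pow_add,
    Nat.sub_add_cancel (Finset.le_sup (f := e) (Finset.mem_univ i))]

omit [IsLocalRing A] in
/-- Finite modules projective off `V(x)` inherit killing elements. -/
theorem exists_kill_of_projective (B : Type u) [AddCommGroup B] [Module A B] [Module.Finite A B]
    (hproj : ∀ i, Module.Projective (Localization (Submonoid.powers (x i)))
      (LocalizedModule (Submonoid.powers (x i)) B)) {g a : A} (ha : a ∈ (Ideal.span (Set.range x)).radical)
    (h0 : Kill0 x A g) (h1 : Kill1 x A g) : ∃ K : ℕ, Kill0 x B (a ^ K * g) ∧ Kill1 x B (a ^ K * g) := by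
  cases nonempty_fintype ι
  obtain ⟨r, e, G, s, hs⟩ := exists_split x B hproj
  obtain ⟨K, c, hc⟩ := exists_pow_eq_sum ha e
  exact ⟨K, hc ▸ exists_kill_of_split G s hs h0 h1 c⟩

end Groth.Agent.Pur25
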