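import Mathlib.RingTheory.Noetherian.Basic
import Mathlib.RingTheory.Regular.IsSMulRegular
import Mathlib.RingTheory.Ideal.Operations
import Mathlib.LinearAlgebra.Pi
import Mathlib.Tactic.Ring
import Mathlib.Tactic.LinearCombination

/-!
# Sections and first cohomology on the complement of `V(x₁, …, xₙ)`, by numerators

A family `(k, m)` stands for the section `m i / x i ^ k` on `D(x i)`; a cocycle `(k, m)` for
`m i j / (x i * x j) ^ k` on `D(x i * x j)`.
-/

set_option autoImplicit false

universe u v w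

namespace Groth.Agent.Pur25

open Finset

variable {A : Type u} [CommRing A] {ι : Type w} (x : ι → A)
variable {M : Type v} [AddCommGroup M] [Module A M]

/-- Elements killed by powers of all `x i`. -/
def IsTors (v : M) : Prop := ∀ i, ∃ p : ℕ, x i ^ p • v = 0

/-- No torsion supported on `V(x)`. -/
def TorsFree (M : Type v) [AddCommGroup M] [Module A M] : Prop := ∀ v : M, IsTors x v → v = 0

/-- Compatible family. -/
def IsFam (k : ℕ) (m : ι → M) : Prop := ∀ i j, x j ^ k • m i = x i ^ k • m j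

/-- Cocycle. -/
def IsCoc (k : ℕ) (m : ι → ι → M) : Prop :=
  ∀ i j l, x l ^ k • m i j - x j ^ k • m i l + x i ^ k • m j l = 0

/-- `g` kills the cokernel of `M → H⁰`. -/
def Kill0 (M : Type v) [AddCommGroup M] [Module A M] (g : A) : Prop :=
  ∀ (k : ℕ) (m : ι → M), IsFam x k m → ∃ (b : M) (p : ℕ), ∀ i, x i ^ p • (g • m i - x i ^ k • b) = 0

/-- `g` kills `H¹`. -/
def Kill1 (M : Type v) [AddCommGroup M] [Module A M] (g : A) : Prop :=
  ∀ (k : ℕ) (m : ι → ι → M), IsCoc x k m → ∃ (p : ℕ) (t : ι → M),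
    ∀ i j, (x i * x j) ^ p • g • m i j = x j ^ (k + p) • t i - x i ^ (k + p) • t j

variable {x}

theorem Kill0.mul {g : A} (h : Kill0 x M g) (c : A) : Kill0 x M (c * g) := fun k m hm => by
  obtain ⟨b, p, hb⟩ := h k m hm
  refine ⟨c • b, p, fun i => ?_⟩
  rw [smul_comm (x i ^ k) c b, mul_smul, ← smul_sub, smul_comm, hb, smul_zero]

theorem Kill1.mul {g : A} (h : Kill1 x M g) (c : A) : Kill1 x M (c * g) := fun k m hm => by
  obtain ⟨p, t, ht⟩ := h k m hm
  refine ⟨p, c • t, fun i j => ?_⟩
  rw [Pi.smul_apply, Pi.smul_apply, smul_comm (x j ^ (k + p)) c (t i), smul_comm (x i ^ (k + p)) c (t j),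
    ← smul_sub, ← ht i j, mul_smul, smul_comm ((x i * x j) ^ p) c]

theorem IsFam.shift {k : ℕ} {m : ι → M} (h : IsFam x k m) (p : ℕ) :
    IsFam x (k + p) (fun i => x i ^ p • m i) := fun i j => by
  show x j ^ (k + p) • x i ^ p • m i = x i ^ (k + p) • x j ^ p • m j
  simp only [smul_smul]
  rw [show x j ^ (k + p) * x i ^ p = (x i ^ p * x j ^ p) * x j ^ k by ring,
    show x i ^ (k + p) * x j ^ p = (x i ^ p * x j ^ p) * x i ^ k by ring,
    mul_smul _ (x j ^ k) (m i), mul_smul _ (x i ^ k) (m j), h i j]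

/-- A family compatible up to torsion becomes compatible after a shift. -/
theorem exists_shift_isFam [Finite ι] {k : ℕ} {m : ι → M}
    (h : ∀ i j, ∃ p, (x i * x j) ^ p • (x j ^ k • m i - x i ^ k • m j) = 0) :
    ∃ p, IsFam x (k + p) (fun i => x i ^ p • m i) := by
  choose p hp using h
  cases nonempty_fintype ι
  let P := (univ : Finset (ι × ι)).sup fun ij => p ij.1 ij.2
  refine ⟨P, fun i j => ?_⟩
  have hle : p i j ≤ P := le_sup (f := fun ij : ι × ι => p ij.1 ij.2) (mem_univ (i, j))
  have h0 : (x i * x j) ^ P • (x j ^ k • m i - x i ^ k • m j) = 0 := by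
    rw [← Nat.sub_add_cancel hle, pow_add, mul_smul, hp, smul_zero]
  rw [smul_sub, sub_eq_zero, smul_smul, smul_smul] at h0
  show x j ^ (k + P) • x i ^ P • m i = x i ^ (k + P) • x j ^ P • m j
  rw [smul_smul, smul_smul, show x j ^ (k + P) * x i ^ P = (x i * x j) ^ P * x j ^ k by ring,
    show x i ^ (k + P) * x j ^ P = (x i * x j) ^ P * x i ^ k by ring]
  exact h0

/-- A power of an element of the radical of `span x` lies in the span of any powers. -/
theorem exists_pow_eq_sum [Fintype ι] {a : A} (ha : a ∈ (Ideal.span (Set.range x)).radical) (p : ℕ) :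
    ∃ (K : ℕ) (c : ι → A), a ^ K = ∑ i, c i * x i ^ p := by
  classical
  have hle : (Ideal.span (Set.range x)).radical ≤ (Ideal.span (Set.range fun i => x i ^ p)).radical := by
    refine Ideal.radical_le_radical_iff.2 (Ideal.span_le.2 ?_)
    rintro _ ⟨i, rfl⟩
    exact ⟨p, Ideal.subset_span ⟨i, rfl⟩⟩
  obtain ⟨K, hK⟩ := hle ha
  obtain ⟨c, hc⟩ := Ideal.mem_span_range_iff_exists_fun.1 hK
  exact ⟨K, c, hc.symm⟩

theorem pow_smul_eq_zero_of_isTors [Finite ι] {a : A} (ha : a ∈ (Ideal.span (Set.range x)).radical)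
    {v : M} (hv : IsTors x v) : ∃ K : ℕ, a ^ K • v = 0 := by
  choose p hp using hv
  cases nonempty_fintype ι
  obtain ⟨K, c, hc⟩ := exists_pow_eq_sum ha (univ.sup p)
  refine ⟨K, ?_⟩
  rw [hc, sum_smul]
  refine sum_eq_zero fun i _ => ?_
  rw [← Nat.sub_add_cancel (le_sup (f := p) (mem_univ i)), pow_add, ← mul_assoc, mul_smul, hp, smul_zero]

theorem torsFree_of_isSMulRegular [Finite ι] {a : A} (ha : a ∈ (Ideal.span (Set.range x)).radical)
    (hr : IsSMulRegular M a) : TorsFree x M := fun v hv => by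
  obtain ⟨K, hK⟩ := pow_smul_eq_zero_of_isTors ha hv
  exact (hr.pow K).right_eq_zero_of_smul hK

/-- Elements which are torsion modulo `a M` are divisible by `a`. -/
theorem exists_eq_smul_of_torsFree {a : A}
    (h : TorsFree x (QuotSMulTop a M)) {v : M}
    (hv : ∀ i, ∃ (p : ℕ) (w : M), x i ^ p • v = a • w) : ∃ w, v = a • w := by
  have h0 : (Submodule.Quotient.mk v : QuotSMulTop a M) = 0 := by
    refine h _ fun i => ?_
    obtain ⟨p, w, hw⟩ := hv i
    refine ⟨p, ?_⟩
    rw [← Submodule.Quotient.mk_smul, Submodule.Quotient.mk_eq_zero, hw]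
    exact Submodule.smul_mem_pointwise_smul _ _ _ Submodule.mem_top
  rw [Submodule.Quotient.mk_eq_zero, Submodule.mem_smul_pointwise_iff_exists] at h0
  obtain ⟨w, -, hw⟩ := h0
  exact ⟨w, hw.symm⟩

theorem kill0_one_of_torsFree [Finite ι] {a : A} (ha : a ∈ (Ideal.span (Set.range x)).radical)
    (hr : IsSMulRegular M a) (h : TorsFree x (QuotSMulTop a M)) : Kill0 x M (1 : A) := by
  intro k m hm
  cases nonempty_fintype ι
  obtain ⟨K, c, hc⟩ := exists_pow_eq_sum ha k
  have key : ∀ K (q : M), (∀ i, x i ^ k • q = a ^ K • m i) → ∃ q', ∀ i, x i ^ k • q' = m i := by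
    intro K
    induction K with
    | zero => exact fun q hq => ⟨q, fun i => by simpa using hq i⟩
    | succ K ih =>
      intro q hq
      obtain ⟨q', rfl⟩ := exists_eq_smul_of_torsFree h fun i =>
        ⟨k, a ^ K • m i, by rw [hq i, pow_succ', mul_smul]⟩
      refine ih q' fun i => hr ?_
      show a • x i ^ k • q' = a • a ^ K • m i
      rw [smul_comm, hq i, pow_succ', mul_smul]
  obtain ⟨q, hq⟩ := key K (∑ j, c j • m j) fun i => by
    rw [hc, sum_smul, smul_sum]
    exact sum_congr rfl fun j _ => by rw [smul_comm, ← hm i j, smul_smul]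
  exact ⟨q, 0, fun i => by rw [hq i]; simp⟩

theorem kill1_one_of_kill0 [Finite ι] {a : A} (ha : a ∈ (Ideal.span (Set.range x)).radical)
    (hr : IsSMulRegular M a) (h0 : Kill0 x (QuotSMulTop a M) (1 : A)) : Kill1 x M (1 : A) := by
  intro k m hm
  cases nonempty_fintype ι
  obtain ⟨K, c, hc⟩ := exists_pow_eq_sum ha k
  have key : ∀ K, (∃ (p : ℕ) (t : ι → M), ∀ i j,
      (x i * x j) ^ p • a ^ K • m i j = x j ^ (k + p) • t i - x i ^ (k + p) • t j) →
      ∃ (p : ℕ) (t : ι → M), ∀ i j, (x i * x j) ^ p • m i j = x j ^ (k + p) • t i - x i ^ (k + p) • t j := by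
    intro K
    induction K with
    | zero => rintro ⟨p, t, ht⟩; exact ⟨p, t, fun i j => by simpa using ht i j⟩
    | succ K ih =>
      rintro ⟨p, t, ht⟩
      apply ih
      have hfam : IsFam x (k + p) fun i => (Submodule.Quotient.mk (t i) : QuotSMulTop a M) := fun i j => by
        rw [← Submodule.Quotient.mk_smul, ← Submodule.Quotient.mk_smul, Submodule.Quotient.eq,
          ← ht i j, pow_succ', mul_smul, smul_comm]
        exact Submodule.smul_mem_pointwise_smul _ _ _ Submodule.mem_top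
      obtain ⟨b, p', hb⟩ := h0 _ _ hfam
      obtain ⟨b, rfl⟩ := Submodule.Quotient.mk_surjective _ b
      have hb' : ∀ i, ∃ w, x i ^ p' • (t i - x i ^ (k + p) • b) = a • w := fun i => by
        have := hb i
        rw [one_smul, ← Submodule.Quotient.mk_smul, ← Submodule.Quotient.mk_sub, ← Submodule.Quotient.mk_smul,
          Submodule.Quotient.mk_eq_zero, Submodule.mem_smul_pointwise_iff_exists] at this
        obtain ⟨w, -, hw⟩ := this
        exact ⟨w, hw.symm⟩
      choose w hw using hb'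
      refine ⟨p + p', w, fun i j => hr ?_⟩
      show a • _ = a • _
      rw [smul_sub a, smul_comm a (x j ^ (k + (p + p'))) (w i), smul_comm a (x i ^ (k + (p + p'))) (w j), ← hw i,
        ← hw j, smul_comm a ((x i * x j) ^ (p + p')), ← mul_smul a (a ^ K), ← pow_succ' a K, pow_add _ p p', mul_comm,
        mul_smul, ht i j]
      simp only [smul_sub, smul_smul]
      rw [show (x i * x j) ^ p' * x j ^ (k + p) = x j ^ (k + (p + p')) * x i ^ p' by ring,
        show (x i * x j) ^ p' * x i ^ (k + p) = x i ^ (k + (p + p')) * x j ^ p' by ring,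
        show x j ^ (k + (p + p')) * (x i ^ p' * x i ^ (k + p)) = x i ^ (k + (p + p')) * (x j ^ p' * x j ^ (k + p)) by ring]
      abel
  obtain ⟨p, t, ht⟩ := key K ⟨0, fun i => ∑ l, c l • m i l, fun i j => by
    rw [pow_zero, one_smul, add_zero, hc, sum_smul, smul_sum, smul_sum, ← sum_sub_distrib]
    refine sum_congr rfl fun l _ => ?_
    rw [smul_comm (x j ^ k), smul_comm (x i ^ k) (c l), ← smul_sub, mul_smul]
    congr 1
    exact eq_sub_iff_add_eq.2 (sub_eq_zero.1 (Eq.trans (by abel) (hm i j l)))⟩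
  exact ⟨p, t, fun i j => by rw [one_smul]; exact ht i j⟩

/-- Transfer of `Kill0` along a split presentation off `V(x)`. -/
theorem exists_kill0_of_split {r : ℕ} [Fintype ι] {B : Type v} [AddCommGroup B] [Module A B]
    (G : (Fin r → A) →ₗ[A] B) {e : ℕ} (s : ι → B →ₗ[A] (Fin r → A))
    (hs : ∀ i b, G (s i b) = x i ^ e • b) {g : A} (hg0 : Kill0 x A g)
    (c : ι → A) : Kill0 x B ((∑ l, c l * x l ^ e) * g) := by
  intro k m hm
  have hl : ∀ l r', IsFam x k fun i => s l (m i) r' := fun l r' i j => by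
    have := congrFun (congrArg (s l) (hm i j)) r'
    simpa [map_smul] using this
  choose b p hb using fun l r' => hg0 k _ (hl l r')
  let P := (univ : Finset (ι × Fin r)).sup fun lr => p lr.1 lr.2
  refine ⟨∑ l, c l • G (b l), P, fun i => ?_⟩
  have hz : ∀ l, x i ^ P • (g • s l (m i) - x i ^ k • b l) = 0 := fun l => funext fun r' => by
    have hle : p l r' ≤ P := le_sup (f := fun lr : ι × Fin r => p lr.1 lr.2) (mem_univ (l, r'))
    show x i ^ P • (g • s l (m i) r' - x i ^ k • b l r') = 0
    rw [← Nat.sub_add_cancel hle, pow_add, mul_smul, hb l r' i, smul_zero]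
  have : x i ^ P • (((∑ l, c l * x l ^ e) * g) • m i - x i ^ k • ∑ l, c l • G (b l)) =
      ∑ l, c l • G (x i ^ P • (g • s l (m i) - x i ^ k • b l)) := by
    rw [sum_mul, sum_smul, smul_sum, ← sum_sub_distrib, smul_sum]
    refine sum_congr rfl fun l _ => ?_
    simp only [map_smul, map_sub, hs, smul_sub, smul_smul]
    ring_nf
  rw [this]
  exact sum_eq_zero fun l _ => by rw [hz, map_zero, smul_zero]

/-- Transfer of killing elements along a split presentation off `V(x)`. -/
theorem exists_kill_of_split {r : ℕ} [Fintype ι] {B : Type v} [AddCommGroup B] [Module A B]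
    (G : (Fin r → A) →ₗ[A] B) {e : ℕ} (s : ι → B →ₗ[A] (Fin r → A))
    (hs : ∀ i b, G (s i b) = x i ^ e • b) {g : A} (hg0 : Kill0 x A g) (hg1 : Kill1 x A g)
    (c : ι → A) : Kill0 x B ((∑ l, c l * x l ^ e) * g) ∧ Kill1 x B ((∑ l, c l * x l ^ e) * g) := by
  refine ⟨exists_kill0_of_split G s hs hg0 c, fun k m hm => ?_⟩
  have hl : ∀ l r', IsCoc x k fun i j => s l (m i j) r' := fun l r' i j q => by
    have := congrFun (congrArg (s l) (hm i j q)) r'
    simpa [map_smul] using this
  choose p t ht using fun l r' => hg1 k _ (hl l r')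
  let P := (univ : Finset (ι × Fin r)).sup fun lr => p lr.1 lr.2
  let T : ι → ι → Fin r → A := fun l i r' => x i ^ (P - p l r') * t l r' i
  refine ⟨P, fun i => ∑ l, c l • G (T l i), fun i j => ?_⟩
  beta_reduce
  have hz : ∀ l, (x i * x j) ^ P • g • s l (m i j) = x j ^ (k + P) • T l i - x i ^ (k + P) • T l j := fun l =>
    funext fun r' => by
      have hle : p l r' ≤ P := le_sup (f := fun lr : ι × Fin r => p lr.1 lr.2) (mem_univ (l, r'))
      have h := ht l r' i j
      simp only [smul_eq_mul] at h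
      show (x i * x j) ^ P * (g * s l (m i j) r') =
        x j ^ (k + P) * (x i ^ (P - p l r') * t l r' i) - x i ^ (k + P) * (x j ^ (P - p l r') * t l r' j)
      obtain ⟨d, hd⟩ := Nat.exists_eq_add_of_le hle
      rw [show P - p l r' = d by omega, hd]
      linear_combination (x i * x j) ^ d * h
  simp only [sum_mul, sum_smul, smul_sum, ← sum_sub_distrib]
  refine sum_congr rfl fun l _ => ?_
  rw [smul_comm (x j ^ (k + P)), smul_comm (x i ^ (k + P)) (c l), ← smul_sub, ← map_smul G, ← map_smul G,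
    ← map_sub, ← hz l]
  simp only [map_smul, hs, smul_smul]
  ring_nf

end Groth.Agent.Pur25
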