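import Groth.Agent.Lib.Pur25.Model
import Groth.Agent.Lib.Pur25.Fam
import Groth.Agent.Lib.FormalGlueH7.Basic
import Mathlib.RingTheory.Finiteness.Descent
import Mathlib.RingTheory.Flat.FaithfullyFlat.Basic
import Mathlib.RingTheory.IsTensorProduct

/-!
# Descending finite models along faithfully flat formal neighbourhoods
-/

set_option autoImplicit false

universe u

open CategoryTheory CategoryTheory.Limits AlgebraicGeometry TopologicalSpace Opposite TensorProduct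

noncomputable section

namespace Groth.Agent.Pur25

theorem exists_pow_of_forall {A : Type u} [CommRing A] {ι : Type} [Finite ι] {x : ι → A} (J : Ideal A)
    (h : ∀ i, ∃ p : ℕ, x i ^ p ∈ J) : ∃ n : ℕ, Ideal.span (Set.range x) ^ n ≤ J :=
  Ideal.exists_pow_le_of_le_radical_of_fg (Ideal.span_le.2 (by rintro _ ⟨i, rfl⟩; exact h i))
    (Submodule.fg_span (Set.finite_range x))

theorem sections_openImmersion {B' : Type u} [CommRing B'] {W : Scheme.{u}} [CompactSpace W] [QuasiSeparatedSpace W]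
    (k : W ⟶ Spec (CommRingCat.of B')) [IsOpenImmersion k] (ρ : B' →+* Γ(W, ⊤))
    (hρ : ∀ b, ρ b = k.appTop ((Scheme.ΓSpecIso (CommRingCat.of B')).inv b)) {ι : Type} (y : ι → B')
    (hy : ∀ i, ∀ q : PrimeSpectrum B', y i ∉ q.asIdeal → q ∈ Set.range k) :
    (∀ b, ρ b = 0 → ∀ i, ∃ p : ℕ, y i ^ p * b = 0) ∧
      ∀ (w : Γ(W, ⊤)) (i : ι), ∃ (p : ℕ) (b : B'), ρ b = ρ (y i) ^ p * w := by
  let D : ι → (Spec (CommRingCat.of B')).Opens := fun i => PrimeSpectrum.basicOpen (y i)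
  have hD : ∀ i, k ⁻¹ᵁ D i = W.basicOpen (ρ (y i)) := fun i => by
    rw [hρ, ← Scheme.preimage_basicOpen_top]
    exact congrArg (k ⁻¹ᵁ ·) (basicOpen_eq_of_affine (R := CommRingCat.of B') (y i)).symm
  have hiso : ∀ i, IsIso (k.app (D i)) := fun i => Scheme.Hom.isIso_app k _ fun q hq => hy i q hq
  letI : ∀ i, Algebra B' Γ(Spec (CommRingCat.of B'), D i) := fun i => StructureSheaf.openAlgebra B' (op (D i))
  haveI : ∀ i, IsLocalization.Away (y i) Γ(Spec (CommRingCat.of B'), D i) := fun i =>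
    StructureSheaf.IsLocalization.to_basicOpen B' (y i)
  have hrestr : ∀ i (b : B'), W.presheaf.map (homOfLE (le_top : k ⁻¹ᵁ D i ≤ ⊤)).op (ρ b) =
      k.app (D i) (algebraMap B' Γ(Spec (CommRingCat.of B'), D i) b) := fun i b =>
    (congrArg _ (hρ b)).trans (ConcreteCategory.congr_hom (Scheme.Hom.naturality k (homOfLE le_top).op)
      ((Scheme.ΓSpecIso (CommRingCat.of B')).inv b)).symm
  refine ⟨fun b hb i => ?_, fun w i => ?_⟩
  · have h1 := hrestr i b
    rw [hb, map_zero] at h1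
    have h2 := (ConcreteCategory.bijective_of_isIso (k.app (D i))).1 (h1.symm.trans (map_zero _).symm)
    obtain ⟨⟨_, p, rfl⟩, hp⟩ := (IsLocalization.map_eq_zero_iff (Submonoid.powers (y i))
      Γ(Spec (CommRingCat.of B'), D i) b).1 h2
    exact ⟨p, hp⟩
  · obtain ⟨c, hc⟩ := (ConcreteCategory.bijective_of_isIso (k.app (D i))).2 (W.presheaf.map (homOfLE le_top).op w)
    obtain ⟨n, b, hn⟩ := IsLocalization.Away.surj (y i) c
    have h1 : W.presheaf.map (homOfLE (le_top : k ⁻¹ᵁ D i ≤ ⊤)).op (ρ (y i) ^ n * w) =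
        W.presheaf.map (homOfLE le_top).op (ρ b) := by
      rw [map_mul, map_pow, hrestr, hrestr, ← hc, ← hn, map_mul, map_pow]
      ring
    have h1' : W.presheaf.map (homOfLE (le_top : W.basicOpen (ρ (y i)) ≤ ⊤)).op (ρ (y i) ^ n * w) =
        W.presheaf.map (homOfLE le_top).op (ρ b) := by
      have := congrArg (W.presheaf.map (homOfLE (hD i).ge).op) h1
      simp only [← CommRingCat.comp_apply, ← Functor.map_comp] at this
      exact this
    obtain ⟨N, hN⟩ := exists_of_res_eq_of_qcqs_of_top (s := ρ (y i)) h1'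
    refine ⟨N + n, y i ^ N * b, ?_⟩
    rw [map_mul, map_pow, ← hN, pow_add, mul_assoc]

/-- Formal glueing of algebras. -/
theorem exists_glue {A : Type u} [CommRing A] {ι : Type} [Finite ι] {x : ι → A} {S : Type u} [CommRing S] [Algebra A S]
    [Module.FaithfullyFlat A S] (hq : FormalGlueH7.QBij S (Ideal.span (Set.range x)))
    {R : Type u} [CommRing R] [Algebra A R] {B' : Type u} [CommRing B'] [Algebra S B'] [Algebra A B']
    [IsScalarTower A S B'] [Module.Finite S B'] (φ : B' →ₐ[S] S ⊗[A] R)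
    (hker₀ : ∀ b, φ b = 0 → ∀ i, ∃ p : ℕ, x i ^ p • b = 0)
    (hcoker₀ : ∀ t i, ∃ (p : ℕ) (b : B'), φ b = x i ^ p • t) :
    ∃ (B : Type u) (_ : CommRing B) (_ : Algebra A B) (_ : Module.Finite A B) (ρ : B →ₐ[A] R),
      (∀ b, ρ b = 0 → ∀ i, ∃ p : ℕ, x i ^ p • b = 0) ∧ (∀ r i, ∃ (p : ℕ) (b : B), ρ b = x i ^ p • r) ∧
      Nonempty (S ⊗[A] B ≃ₐ[S] B') := by
  haveI : Module.Flat A S := inferInstance
  have hker : ∀ b, φ b = 0 → ∃ n : ℕ, ∀ a ∈ Ideal.span (Set.range x) ^ n, a • b = 0 := fun b hb => by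
    obtain ⟨n, hn⟩ := exists_pow_of_forall (x := x) (LinearMap.ker (LinearMap.toSpanSingleton A B' b)) (hker₀ b hb)
    exact ⟨n, fun a ha => hn ha⟩
  have hcoker : ∀ t, ∃ n : ℕ, ∀ a ∈ Ideal.span (Set.range x) ^ n, a • t ∈ LinearMap.range φ.toLinearMap := fun t => by
    let J : Ideal A :=
      (LinearMap.range (φ.toLinearMap.restrictScalars A)).comap (LinearMap.toSpanSingleton A (S ⊗[A] R) t)
    have hJ : ∀ a, a ∈ J ↔ ∃ b, φ b = a • t := fun a => Iff.rfl
    obtain ⟨n, hn⟩ := exists_pow_of_forall (x := x) J fun i => by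
      obtain ⟨p, b, hb⟩ := hcoker₀ t i
      exact ⟨p, (hJ _).2 ⟨b, hb⟩⟩
    exact ⟨n, fun a ha => by
      obtain ⟨b, hb⟩ := (hJ a).1 (hn ha)
      exact ⟨b, hb⟩⟩
  let B : Subalgebra A (B' × R) :=
    AlgHom.equalizer ((φ.restrictScalars A).comp (AlgHom.fst A B' R))
      ((Algebra.TensorProduct.includeRight : R →ₐ[A] S ⊗[A] R).comp (AlgHom.snd A B' R))
  have hmem : ∀ b r, (b, r) ∈ B ↔ φ b = (1 : S) ⊗ₜ[A] r := fun b r => Iff.rfl
  let p₁ : B →ₐ[A] R := (AlgHom.snd A B' R).comp B.val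
  let p₂ : B →ₐ[A] B' := (AlgHom.fst A B' R).comp B.val
  have hcomm : ∀ m : B, φ.toLinearMap (p₂.toLinearMap m) = (1 : S) ⊗ₜ[A] p₁.toLinearMap m :=
    fun m => (hmem m.1.1 m.1.2).1 m.2
  have hsurj : ∀ (r : R) (b : B'), φ.toLinearMap b = (1 : S) ⊗ₜ[A] r →
      ∃ m : B, p₁.toLinearMap m = r ∧ p₂.toLinearMap m = b := fun r b hb => ⟨⟨(b, r), (hmem b r).2 hb⟩, rfl, rfl⟩
  have hinj : ∀ m : B, p₁.toLinearMap m = 0 → p₂.toLinearMap m = 0 → m = 0 :=
    fun m h1 h2 => Subtype.ext (Prod.ext h2 h1)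
  have hglue : Function.Bijective (LinearMap.liftBaseChange S p₂.toLinearMap) :=
    FormalGlueH7.glue_lift_bijective (M := B) (N := R) (M' := B') hq φ.toLinearMap hker hcoker
      p₁.toLinearMap p₂.toLinearMap hcomm hinj hsurj
  let β₀ : S ⊗[A] B →ₐ[S] B' := Algebra.TensorProduct.lift (Algebra.ofId S B') p₂ fun _ _ => .all _ _
  have hβ : Function.Bijective β₀ := by
    convert hglue using 1
    funext z
    induction z using TensorProduct.induction_on with
    | zero => simp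
    | tmul s b => simp [β₀, Algebra.smul_def, p₂]
    | add a b ha hb => simp only [map_add, ha, hb]
  let β := AlgEquiv.ofBijective β₀ hβ
  haveI : Module.Finite S (S ⊗[A] B) := Module.Finite.equiv β.toLinearEquiv.symm
  haveI : Module.Finite A B := Module.Finite.of_finite_tensorProduct_of_faithfullyFlat S
  refine ⟨B, inferInstance, inferInstance, inferInstance, p₁, fun b hb i => ?_, fun r i => ?_, ⟨β⟩⟩
  · obtain ⟨p, hp⟩ := hker₀ (p₂ b) (b.2.trans (by
      show (1 : S) ⊗ₜ[A] p₁ b = 0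
      rw [hb, TensorProduct.tmul_zero])) i
    refine ⟨p, Subtype.ext (Prod.ext hp ?_)⟩
    show x i ^ p • p₁ b = 0
    rw [hb, smul_zero]
  · obtain ⟨p, b, hb⟩ := hcoker₀ ((1 : S) ⊗ₜ[A] r) i
    refine ⟨p, ⟨(b, x i ^ p • r), ?_⟩, rfl⟩
    show φ b = (1 : S) ⊗ₜ[A] (x i ^ p • r)
    rw [TensorProduct.tmul_smul]
    exact hb

set_option maxHeartbeats 400000 in
/-- Sections of a flat base change. -/
theorem exists_sections_equiv {A : Type u} [CommRing A] {S : Type u} [CommRing S] [Algebra A S] [Module.Flat A S]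
    {Z W : Scheme.{u}} [CompactSpace Z] [QuasiSeparatedSpace Z] (g : Z ⟶ Spec (CommRingCat.of A))
    {pr : W ⟶ Z} {qr : W ⟶ Spec (CommRingCat.of S)}
    (H : IsPullback pr qr g (Spec.map (CommRingCat.ofHom (algebraMap A S)))) :
    letI := (gΓ g).hom.toAlgebra
    letI := (gΓ qr).hom.toAlgebra
    ∃ Φ : S ⊗[A] Γ(Z, ⊤) ≃ₐ[S] Γ(W, ⊤), ∀ r, Φ ((1 : S) ⊗ₜ[A] r) = pr.appTop r := by
  letI aAR : Algebra A Γ(Z, ⊤) := (gΓ g).hom.toAlgebra
  set σ := Spec.map (CommRingCat.ofHom (algebraMap A S)) with hσ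
  haveI : Flat σ := (HasRingHomProperty.Spec_iff (P := @Flat)).2 (RingHom.flat_algebraMap_iff.2 inferInstance)
  -- sections of the base change
  letI aSW : Algebra S Γ(W, ⊤) := (gΓ qr).hom.toAlgebra
  letI aAW : Algebra A Γ(W, ⊤) := ((algebraMap S Γ(W, ⊤)).comp (algebraMap A S)).toAlgebra
  letI aRW : Algebra Γ(Z, ⊤) Γ(W, ⊤) := pr.appTop.hom.toAlgebra
  haveI : IsScalarTower A S Γ(W, ⊤) := IsScalarTower.of_algebraMap_eq fun _ => rfl
  have hsq : gΓ g ≫ pr.appTop = CommRingCat.ofHom (algebraMap A S) ≫ gΓ qr := by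
    rw [gΓ, gΓ, Category.assoc, ← Scheme.Hom.comp_appTop, H.w, Scheme.Hom.comp_appTop,
      ← Scheme.ΓSpecIso_inv_naturality_assoc]
  haveI : IsScalarTower A Γ(Z, ⊤) Γ(W, ⊤) :=
    IsScalarTower.of_algebraMap_eq fun a => (ConcreteCategory.congr_hom hsq a).symm
  have hP : Algebra.IsPushout A S Γ(Z, ⊤) Γ(W, ⊤) := by
    have hi := isIso_pushoutSection_of_isQuasiSeparated_of_flat_right H (US := ⊤) (UT := ⊤) (UX := ⊤)
      (UY := ⊤) le_top le_top (by simp) (isAffineOpen_top _) (isAffineOpen_top _) isCompact_univ isQuasiSeparated_univ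
    have h1 := (isIso_pushoutSection_iff H (US := ⊤) (UT := ⊤) (UX := ⊤) (UY := ⊤) le_top le_top (by simp)).1 hi
    have h2 : IsPushout (CommRingCat.ofHom (algebraMap A Γ(Z, ⊤))) (CommRingCat.ofHom (algebraMap A S))
        (CommRingCat.ofHom (algebraMap Γ(Z, ⊤) Γ(W, ⊤))) (CommRingCat.ofHom (algebraMap S Γ(W, ⊤))) := by
      refine h1.of_iso (Scheme.ΓSpecIso (CommRingCat.of A)) (Iso.refl _) (Scheme.ΓSpecIso (CommRingCat.of S))
        (Iso.refl _) ?_ ?_ ?_ ?_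
      · show g.appLE ⊤ ⊤ le_top ≫ 𝟙 _ = _ ≫ gΓ g
        rw [gΓ, Iso.hom_inv_id_assoc, Category.comp_id]
        exact (Scheme.Hom.appLE_eq_app g).trans rfl
      · show σ.appLE ⊤ ⊤ le_top ≫ _ = _
        rw [hσ]
        exact ((congrArg (· ≫ (Scheme.ΓSpecIso (CommRingCat.of S)).hom) (Scheme.Hom.appLE_eq_app _)).trans
          (Scheme.ΓSpecIso_naturality _))
      · show pr.appLE ⊤ ⊤ _ ≫ 𝟙 _ = 𝟙 _ ≫ pr.appTop
        rw [Category.comp_id, Category.id_comp]
        exact (Scheme.Hom.appLE_eq_app _).trans rfl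
      · show qr.appLE ⊤ ⊤ _ ≫ 𝟙 _ = _ ≫ gΓ qr
        rw [gΓ, Iso.hom_inv_id_assoc, Category.comp_id]
        exact (Scheme.Hom.appLE_eq_app _).trans rfl
    exact CommRingCat.isPushout_iff_isPushout.1 h2.flip
  let Φ : S ⊗[A] Γ(Z, ⊤) ≃ₐ[S] Γ(W, ⊤) := Algebra.IsPushout.equiv A S Γ(Z, ⊤) Γ(W, ⊤)
  have hΦ : ∀ r, Φ ((1 : S) ⊗ₜ[A] r) = pr.appTop r := fun r => by
    show Algebra.IsPushout.equiv A S Γ(Z, ⊤) Γ(W, ⊤) _ = _
    rw [Algebra.IsPushout.equiv_tmul, map_one, one_mul]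
    rfl
  exact ⟨Φ, hΦ⟩

variable {A : Type u} [CommRing A] [IsNoetherianRing A] {ι : Type} [Finite ι] {x : ι → A}
  {U : (Spec (CommRingCat.of A)).Opens}

set_option maxHeartbeats 1000000 in
/-- A finite model over a faithfully flat formal neighbourhood descends. -/
theorem descend_model (hU : ∀ q : PrimeSpectrum A, q ∈ U ↔ ∃ i, x i ∉ q.asIdeal)
    {Z : Scheme.{u}} (h : Z ⟶ (U : Scheme.{u})) [IsFinite h]
    (S : Type u) [CommRing S] [IsNoetherianRing S] [Algebra A S] [Module.FaithfullyFlat A S]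
    (hq : FormalGlueH7.QBij S (Ideal.span (Set.range x)))
    (B' : Type u) [CommRing B'] [Algebra S B'] [Module.Finite S B']
    {W : Scheme.{u}} {pr : W ⟶ Z} {qr : W ⟶ Spec (CommRingCat.of S)}
    (H : IsPullback pr qr (h ≫ U.ι) (Spec.map (CommRingCat.ofHom (algebraMap A S))))
    (k : W ⟶ Spec (CommRingCat.of B')) [IsOpenImmersion k]
    (hk : k ≫ Spec.map (CommRingCat.ofHom (algebraMap S B')) = qr)
    (hkr : Set.range k = {q | ∃ i, algebraMap S B' (algebraMap A S (x i)) ∉ q.asIdeal}) :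
    ∃ (B : Type u) (_ : CommRing B) (_ : Algebra A B) (_ : Module.Finite A B)
      (j : Z ⟶ Spec (CommRingCat.of B)), IsOpenImmersion j ∧
      j ≫ Spec.map (CommRingCat.ofHom (algebraMap A B)) = h ≫ U.ι ∧
      Set.range j = {q | ∃ i, algebraMap A B (x i) ∉ q.asIdeal} ∧
      Nonempty (S ⊗[A] B ≃ₐ[S] B') := by
  classical
  cases nonempty_fintype ι
  set g : Z ⟶ Spec (CommRingCat.of A) := h ≫ U.ι with hg
  haveI : LocallyOfFiniteType g := inferInstanceAs (LocallyOfFiniteType (h ≫ U.ι))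
  haveI : QuasiCompact g := inferInstanceAs (QuasiCompact (h ≫ U.ι))
  haveI : IsLocallyNoetherian Z := LocallyOfFiniteType.isLocallyNoetherian g
  haveI : CompactSpace Z := QuasiCompact.compactSpace_of_compactSpace g
  haveI : QuasiSeparatedSpace Z := inferInstance
  haveI : QuasiCompact qr := MorphismProperty.of_isPullback H inferInstance
  haveI : LocallyOfFiniteType qr := MorphismProperty.of_isPullback H inferInstance
  haveI : IsLocallyNoetherian W := LocallyOfFiniteType.isLocallyNoetherian qr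
  haveI : CompactSpace W := QuasiCompact.compactSpace_of_compactSpace qr
  haveI : QuasiSeparatedSpace W := inferInstance
  haveI : Module.Flat A S := inferInstance
  letI aAR : Algebra A Γ(Z, ⊤) := (gΓ g).hom.toAlgebra
  letI aSW : Algebra S Γ(W, ⊤) := (gΓ qr).hom.toAlgebra
  letI aAW : Algebra A Γ(W, ⊤) := ((algebraMap S Γ(W, ⊤)).comp (algebraMap A S)).toAlgebra
  haveI : IsScalarTower A S Γ(W, ⊤) := IsScalarTower.of_algebraMap_eq fun _ => rfl
  obtain ⟨Φ, hΦ⟩ := exists_sections_equiv g H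
  letI : Algebra A B' := ((algebraMap S B').comp (algebraMap A S)).toAlgebra
  haveI : IsScalarTower A S B' := IsScalarTower.of_algebraMap_eq fun _ => rfl
  have hks : ∀ s, k.appTop ((Scheme.ΓSpecIso (CommRingCat.of B')).inv (algebraMap S B' s)) = algebraMap S Γ(W, ⊤) s := by
    intro s
    have h1 : CommRingCat.ofHom (algebraMap S B') ≫ (Scheme.ΓSpecIso (CommRingCat.of B')).inv ≫ k.appTop = gΓ qr := by
      rw [← Category.assoc, Scheme.ΓSpecIso_inv_naturality, Category.assoc, gΓ, ← hk, Scheme.Hom.comp_appTop]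
    exact ConcreteCategory.congr_hom h1 s
  obtain ⟨φ₀, hφ₀⟩ : ∃ φ₀ : B' →ₐ[S] Γ(W, ⊤),
      ∀ b, φ₀ b = k.appTop ((Scheme.ΓSpecIso (CommRingCat.of B')).inv b) :=
    ⟨{ ((Scheme.ΓSpecIso (CommRingCat.of B')).inv ≫ k.appTop).hom with commutes' := hks }, fun _ => rfl⟩
  let φ : B' →ₐ[S] S ⊗[A] Γ(Z, ⊤) := Φ.symm.toAlgHom.comp φ₀
  -- the sections on `D(x i)`
  let y : ι → B' := fun i => algebraMap A B' (x i)
  obtain ⟨hker₀, hcoker₀⟩ := sections_openImmersion k φ₀.toRingHom (fun b => hφ₀ b) y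
    (fun i q hq => show q ∈ Set.range k from hkr ▸ ⟨i, hq⟩)
  obtain ⟨B, iB, iAB, iF, ρ, hρker, hρcoker, hβ⟩ := exists_glue (x := x) hq φ
    (fun b hb i => by
      obtain ⟨p, hp⟩ := hker₀ b (Φ.symm.injective (hb.trans (map_zero _).symm)) i
      exact ⟨p, by rw [Algebra.smul_def, map_pow]; exact hp⟩)
    (fun t i => by
      obtain ⟨p, b, hb⟩ := hcoker₀ (Φ t) i
      refine ⟨p, b, Φ.injective ?_⟩
      show Φ (Φ.symm (φ₀ b)) = Φ (x i ^ p • t)
      rw [Φ.apply_symm_apply, show φ₀ b = _ from hb, Algebra.smul_def, map_mul,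
        IsScalarTower.algebraMap_apply A S (S ⊗[A] Γ(Z, ⊤)), Φ.commutes, map_pow, map_pow,
        show φ₀.toRingHom (y i) = algebraMap S Γ(W, ⊤) (algebraMap A S (x i)) from φ₀.commutes _])
  have hcov : ∀ z : Z, ∃ i, z ∈ Z.basicOpen (gΓ g (x i)) := fun z => by
    obtain ⟨i, hi⟩ := (hU (g z)).1 (h z).2
    refine ⟨i, ?_⟩
    have h1 : z ∈ Z.toSpecΓ ⁻¹ᵁ (PrimeSpectrum.basicOpen (gΓ g (x i))) := by
      show (x i) ∉ (Spec.map (gΓ g) (Z.toSpecΓ z) : PrimeSpectrum A).asIdeal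
      rw [← Scheme.Hom.comp_apply, toSpecΓ_gΓ]
      exact hi
    rwa [Scheme.toSpecΓ_preimage_basicOpen] at h1
  have haff : ∀ i, IsAffineOpen (Z.basicOpen (gΓ g (x i))) := fun i => by
    let D : (Spec (CommRingCat.of A)).Opens := PrimeSpectrum.basicOpen (x i)
    have hDU : D ≤ U := fun q hq => (hU q).2 ⟨i, hq⟩
    have e : Z.basicOpen (gΓ g (x i)) = h ⁻¹ᵁ (U.ι ⁻¹ᵁ D) := by
      rw [← Scheme.Hom.comp_preimage, ← hg]
      conv_rhs => rw [← toSpecΓ_gΓ g]
      rw [Scheme.Hom.comp_preimage]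
      exact (Scheme.toSpecΓ_preimage_basicOpen Z _).symm
    rw [e]
    refine IsAffineOpen.preimage ?_ h
    refine (Scheme.Hom.isAffineOpen_iff_of_isOpenImmersion U.ι).1 ?_
    rw [Scheme.Hom.image_preimage_eq_opensRange_inf, Scheme.Opens.opensRange_ι, inf_eq_right.2 hDU]
    exact IsAffineOpen.Spec_basicOpen (R := CommRingCat.of A) (x i)
  obtain ⟨hj, hjg, hjr, -⟩ := isModel_of_torsion (x := x) g ρ.toRingHom (fun a => ρ.commutes a)
    (fun b hb i => by
      obtain ⟨p, hp⟩ := hρker b hb i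
      exact ⟨p, by rw [← map_pow, ← Algebra.smul_def]; exact hp⟩)
    (fun r i => by
      obtain ⟨p, b, hb⟩ := hρcoker r i
      refine ⟨p, b, hb.trans ?_⟩
      rw [Algebra.smul_def, map_pow]
      rfl) hcov haff
  exact ⟨B, iB, iAB, iF, _, hj, hjg, hjr, hβ⟩

end Groth.Agent.Pur25
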