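import Groth.Agent.Lib.Pur25.Model
import Groth.Agent.Lib.Pur25.Depth
import Groth.Agent.Lib.Pur25.Descend
import Mathlib.RingTheory.Flat.Stability

/-!
# Global sections of flat finite schemes over `D(x)` in depth two
-/

set_option autoImplicit false

universe u

open CategoryTheory AlgebraicGeometry TopologicalSpace Opposite TensorProduct

noncomputable section

namespace Groth.Agent.Pur25

/-- A nonzerodivisor stays one on a flat module. -/
theorem isSMulRegular_of_flat {A N : Type u} [CommRing A] [AddCommGroup N] [Module A N] [Module.Flat A N] {a : A}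
    {J : Ideal A} (ha : IsSMulRegular (A ⧸ J) a) : IsSMulRegular (N ⧸ (J • ⊤ : Submodule A N)) a := by
  have h1 : IsSMulRegular ((A ⧸ J) ⊗[A] N) a := by
    have : Function.Injective ((LinearMap.lsmul A (A ⧸ J) a).rTensor N) :=
      Module.Flat.rTensor_preserves_injective_linearMap _ ha
    intro p q hpq
    refine this ?_
    have e : ∀ z, (LinearMap.lsmul A (A ⧸ J) a).rTensor N z = a • z := fun z => by
      induction z using TensorProduct.induction_on with
      | zero => simp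
      | tmul s t => simp [TensorProduct.smul_tmul']
      | add s t hs ht => simp [hs, ht]
    rw [e, e]; exact hpq
  exact ((TensorProduct.quotTensorEquivQuotSMul N J).isSMulRegular_congr a).1 h1

/-- A nonzerodivisor of the ring is a nonzerodivisor on a flat module. -/
theorem isSMulRegular_self_of_flat {A N : Type u} [CommRing A] [AddCommGroup N] [Module A N] [Module.Flat A N] {a : A}
    (ha : IsSMulRegular A a) : IsSMulRegular N a := by
  have : Function.Injective ((LinearMap.lsmul A A a).rTensor N) :=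
    Module.Flat.rTensor_preserves_injective_linearMap _ ha
  intro p q hpq
  have e : ∀ z : N, TensorProduct.lid A N ((LinearMap.lsmul A A a).rTensor N ((TensorProduct.lid A N).symm z)) = a • z :=
    fun z => by simp
  exact (TensorProduct.lid A N).symm.injective (this ((TensorProduct.lid A N).injective ((e p).trans (hpq.trans (e q).symm))))

/-- Sections of a flat morphism over an affine open are flat. -/
theorem flat_piece {A : Type u} [CommRing A] {Z : Scheme.{u}} (g : Z ⟶ Spec (CommRingCat.of A)) [Flat g]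
    (W : Z.Opens) (hW : IsAffineOpen W) :
    letI := ((Z.presheaf.map (homOfLE (le_top : W ≤ ⊤)).op).hom.comp (gΓ g).hom).toAlgebra
    Module.Flat A Γ(Z, W) := by
  have h1 := RingHom.Flat.comp (RingHom.Flat.of_bijective
      (ConcreteCategory.bijective_of_isIso (Scheme.ΓSpecIso (CommRingCat.of A)).inv))
      (HasRingHomProperty.appLE @Flat g inferInstance ⟨⊤, isAffineOpen_top _⟩ ⟨W, hW⟩ le_top)
  letI := ((Z.presheaf.map (homOfLE (le_top : W ≤ ⊤)).op).hom.comp (gΓ g).hom).toAlgebra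
  exact RingHom.flat_algebraMap_iff.1 h1

variable {A : Type u} [CommRing A] [IsNoetherianRing A] {ι : Type} [Finite ι] {x : ι → A}
  {U : (Spec (CommRingCat.of A)).Opens}

/-- The basic opens of the generators cover, and are affine. -/
theorem cover_affine (hU : ∀ q : PrimeSpectrum A, q ∈ U ↔ ∃ i, x i ∉ q.asIdeal)
    {Z : Scheme.{u}} (h : Z ⟶ (U : Scheme.{u})) [IsFinite h] :
    (∀ z : Z, ∃ i, z ∈ Z.basicOpen (gΓ (h ≫ U.ι) (x i))) ∧
      ∀ (i : ι) (c : A), IsAffineOpen (Z.basicOpen (gΓ (h ≫ U.ι) (x i * c))) := by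
  have e : ∀ c : A, Z.basicOpen (gΓ (h ≫ U.ι) c) =
      h ⁻¹ᵁ (U.ι ⁻¹ᵁ (PrimeSpectrum.basicOpen c : (Spec (CommRingCat.of A)).Opens)) := fun c => by
    rw [← Scheme.Hom.comp_preimage]
    conv_rhs => rw [← toSpecΓ_gΓ (h ≫ U.ι)]
    rw [Scheme.Hom.comp_preimage]
    exact (Scheme.toSpecΓ_preimage_basicOpen Z _).symm
  refine ⟨fun z => ?_, fun i c => ?_⟩
  · obtain ⟨i, hi⟩ := (hU (U.ι (h z))).1 (h z).2
    exact ⟨i, by rw [e]; exact hi⟩
  · rw [e]
    let D : (Spec (CommRingCat.of A)).Opens := PrimeSpectrum.basicOpen (x i * c)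
    have hDU : D ≤ U := fun q hq => (hU q).2 ⟨i, fun h1 => hq (q.asIdeal.mul_mem_right _ h1)⟩
    refine IsAffineOpen.preimage ?_ h
    refine (Scheme.Hom.isAffineOpen_iff_of_isOpenImmersion U.ι).1 ?_
    show IsAffineOpen (U.ι ''ᵁ (U.ι ⁻¹ᵁ D))
    rw [Scheme.Hom.image_preimage_eq_opensRange_inf, Scheme.Opens.opensRange_ι, inf_eq_right.2 hDU]
    exact IsAffineOpen.Spec_basicOpen (R := CommRingCat.of A) (x i * c)

variable (hU : ∀ q : PrimeSpectrum A, q ∈ U ↔ ∃ i, x i ∉ q.asIdeal)
  {Z : Scheme.{u}} (h : Z ⟶ (U : Scheme.{u})) [IsFinite h] [Flat h]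
include hU

/-- Regularity on affine pieces. -/
theorem isSMulRegular_piece (W : Z.Opens) (hW : IsAffineOpen W) {a : A} {J : Ideal A}
    (ha : IsSMulRegular (A ⧸ J) a) :
    letI := ((Z.presheaf.map (homOfLE (le_top : W ≤ ⊤)).op).hom.comp (gΓ (h ≫ U.ι)).hom).toAlgebra
    IsSMulRegular (Γ(Z, W) ⧸ (J • ⊤ : Submodule A Γ(Z, W))) a := by
  letI := ((Z.presheaf.map (homOfLE (le_top : W ≤ ⊤)).op).hom.comp (gΓ (h ≫ U.ι)).hom).toAlgebra
  haveI : Flat (h ≫ U.ι) := inferInstance
  haveI : Module.Flat A Γ(Z, W) := flat_piece (h ≫ U.ι) W hW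
  exact isSMulRegular_of_flat ha

omit [Finite ι] in
/-- Nonzerodivisors of `A` are nonzerodivisors on the global sections. -/
theorem eq_zero_of_mul_eq_zero [Finite ι] {a : A} (ha : IsSMulRegular A a) {r : Γ(Z, ⊤)}
    (hr : gΓ (h ≫ U.ι) a * r = 0) : r = 0 := by
  obtain ⟨hcov, haff⟩ := cover_affine hU h
  refine Z.sheaf.eq_of_locally_eq' (fun i => Z.basicOpen (gΓ (h ≫ U.ι) (x i))) ⊤ (fun i => homOfLE le_top)
    (fun z _ => Opens.mem_iSup.2 (hcov z)) r 0 fun i => ?_
  show Z.presheaf.map _ r = Z.presheaf.map _ 0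
  rw [map_zero]
  set W := Z.basicOpen (gΓ (h ≫ U.ι) (x i))
  letI := ((Z.presheaf.map (homOfLE (le_top : W ≤ ⊤)).op).hom.comp (gΓ (h ≫ U.ι)).hom).toAlgebra
  haveI : Flat (h ≫ U.ι) := inferInstance
  haveI : Module.Flat A Γ(Z, W) := flat_piece (h ≫ U.ι) W (by simpa [W] using haff i 1)
  refine (isSMulRegular_self_of_flat (N := Γ(Z, W)) ha).right_eq_zero_of_smul ?_
  rw [Algebra.smul_def]
  show Z.presheaf.map _ (gΓ (h ≫ U.ι) a) * Z.presheaf.map _ r = 0
  rw [← map_mul, hr, map_zero]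

/-- In depth two, a second regular element is regular on the global sections modulo the first. -/
theorem exists_div {a b : A} (ha : IsSMulRegular A a) (hb : IsSMulRegular (A ⧸ Ideal.span {a}) b)
    {r t : Γ(Z, ⊤)} (hrt : gΓ (h ≫ U.ι) b * r = gΓ (h ≫ U.ι) a * t) :
    ∃ u, r = gΓ (h ≫ U.ι) a * u := by
  obtain ⟨hcov, haff⟩ := cover_affine hU h
  set g := h ≫ U.ι with hg
  let W : ι → Z.Opens := fun i => Z.basicOpen (gΓ g (x i))
  have hloc : ∀ i, ∃ u : Γ(Z, W i), Z.presheaf.map (homOfLE le_top).op r =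
      Z.presheaf.map (homOfLE le_top).op (gΓ g a) * u := fun i => by
    letI := ((Z.presheaf.map (homOfLE (le_top : W i ≤ ⊤)).op).hom.comp (gΓ g).hom).toAlgebra
    have h1 := isSMulRegular_piece hU h (W i) (by simpa [W] using haff i 1) hb
    have h2 : (Submodule.Quotient.mk (Z.presheaf.map (homOfLE le_top).op r) :
        Γ(Z, W i) ⧸ (Ideal.span {a} • ⊤ : Submodule A Γ(Z, W i))) = 0 := by
      refine h1.right_eq_zero_of_smul ?_
      rw [← Submodule.Quotient.mk_smul, Submodule.Quotient.mk_eq_zero,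
        Submodule.ideal_span_singleton_smul, Submodule.mem_smul_pointwise_iff_exists]
      refine ⟨Z.presheaf.map (homOfLE le_top).op t, trivial, ?_⟩
      rw [Algebra.smul_def, Algebra.smul_def]
      have := congrArg (Z.presheaf.map (homOfLE (le_top : W i ≤ ⊤)).op).hom hrt
      rw [map_mul, map_mul] at this
      exact this.symm
    rw [Submodule.Quotient.mk_eq_zero, Submodule.ideal_span_singleton_smul,
      Submodule.mem_smul_pointwise_iff_exists] at h2
    obtain ⟨u, -, hu⟩ := h2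
    exact ⟨u, by rw [← hu, Algebra.smul_def]; rfl⟩
  choose u hu using hloc
  have hcompat : TopCat.Presheaf.IsCompatible Z.sheaf.1 W u := by
    intro i j
    have hij : W i ⊓ W j = Z.basicOpen (gΓ g (x i * x j)) := by
      rw [map_mul, Scheme.basicOpen_mul]
    have haffij : IsAffineOpen (W i ⊓ W j) := hij ▸ haff i (x j)
    letI := ((Z.presheaf.map (homOfLE (le_top : W i ⊓ W j ≤ ⊤)).op).hom.comp (gΓ g).hom).toAlgebra
    haveI : Module.Flat A Γ(Z, W i ⊓ W j) := flat_piece g _ haffij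
    have e1 := congrArg (Z.presheaf.map (homOfLE (inf_le_left : W i ⊓ W j ≤ W i)).op) (hu i)
    have e2 := congrArg (Z.presheaf.map (homOfLE (inf_le_right : W i ⊓ W j ≤ W j)).op) (hu j)
    rw [map_mul] at e1 e2
    simp only [← CommRingCat.comp_apply, ← Functor.map_comp] at e1 e2
    refine (isSMulRegular_self_of_flat (N := Γ(Z, W i ⊓ W j)) ha) ?_
    show a • _ = a • _
    rw [Algebra.smul_def, Algebra.smul_def]
    exact e1.symm.trans e2
  obtain ⟨s, hs, -⟩ := Z.sheaf.existsUnique_gluing' W ⊤ (fun i => homOfLE le_top)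
    (fun z _ => Opens.mem_iSup.2 (hcov z)) u hcompat
  let s' : Γ(Z, ⊤) := s
  refine ⟨s', Z.sheaf.eq_of_locally_eq' W ⊤ (fun i => homOfLE le_top)
    (fun z _ => Opens.mem_iSup.2 (hcov z)) _ _ fun i => ?_⟩
  show Z.presheaf.map _ r = Z.presheaf.map _ (gΓ g a * s')
  rw [map_mul, hu i]
  exact congrArg _ (hs i).symm

/-- The global sections form a finite model. -/
theorem sections_model {a : A} (hax : a ∈ (Ideal.span (Set.range x)).radical) (ha : IsSMulRegular A a)
    (h0 : Kill0 x A (1 : A)) :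
    letI := (gΓ (h ≫ U.ι)).hom.toAlgebra
    Module.Finite A Γ(Z, ⊤) ∧ ∃ j : Z ⟶ Spec Γ(Z, ⊤), IsOpenImmersion j ∧
      j ≫ Spec.map (CommRingCat.ofHom (algebraMap A Γ(Z, ⊤))) = h ≫ U.ι ∧
      Set.range j = {q | ∃ i, algebraMap A Γ(Z, ⊤) (x i) ∉ q.asIdeal} := by
  classical
  cases nonempty_fintype ι
  set g := h ≫ U.ι with hg
  letI iR : Algebra A Γ(Z, ⊤) := (gΓ g).hom.toAlgebra
  haveI : LocallyOfFiniteType g := inferInstanceAs (LocallyOfFiniteType (h ≫ U.ι))
  haveI : QuasiCompact g := inferInstanceAs (QuasiCompact (h ≫ U.ι))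
  haveI : IsLocallyNoetherian Z := LocallyOfFiniteType.isLocallyNoetherian g
  haveI : CompactSpace Z := QuasiCompact.compactSpace_of_compactSpace g
  obtain ⟨hcov, haff⟩ := cover_affine hU h
  have hreg : IsSMulRegular Γ(Z, ⊤) a := fun r s hrs => sub_eq_zero.1 (eq_zero_of_mul_eq_zero hU h ha (by
    simp only [Algebra.smul_def] at hrs
    rw [mul_sub, sub_eq_zero]
    exact hrs))
  have htf : TorsFree x Γ(Z, ⊤) := torsFree_of_isSMulRegular hax hreg
  obtain ⟨hj, hjg, hjr, -⟩ := isModel_of_torsion (x := x) g (RingHom.id Γ(Z, ⊤)) (fun a => rfl)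
    (fun b hb i => ⟨0, by rw [show b = 0 from hb, mul_zero]⟩) (fun r i => ⟨0, r, by rw [pow_zero, one_mul]; rfl⟩)
    hcov (fun i => by simpa using haff i 1)
  refine ⟨?_, _, hj, hjg, hjr⟩
  obtain ⟨B, _, _, _, j, hj', hjg', hjr', hproj⟩ := exists_model hU h
  obtain ⟨e, hproj⟩ : ∃ _ : Unit, ∀ i, Module.Projective (Localization (Submonoid.powers (x i)))
      (LocalizedModule (Submonoid.powers (x i)) B) := ⟨(), hproj inferInstance⟩
  obtain ⟨r', e', G, s, hs⟩ := exists_split x B hproj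
  obtain ⟨K, c, hc⟩ := exists_pow_eq_sum hax e'
  have hK : Kill0 x B (a ^ K * 1) := hc ▸ exists_kill0_of_split G s hs h0 c
  rw [mul_one] at hK
  -- the comparison map
  let ρ : B →ₐ[A] Γ(Z, ⊤) :=
    { ((Scheme.ΓSpecIso (CommRingCat.of B)).inv ≫ j.appTop).hom with
      commutes' := fun c => by
        have h1 : CommRingCat.ofHom (algebraMap A B) ≫ (Scheme.ΓSpecIso (CommRingCat.of B)).inv ≫ j.appTop = gΓ g := by
          rw [← Category.assoc, Scheme.ΓSpecIso_inv_naturality, Category.assoc, gΓ, hg, ← hjg', Scheme.Hom.comp_appTop]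
        exact ConcreteCategory.congr_hom h1 c }
  have hρ := sections_openImmersion j ρ.toRingHom (fun _ => rfl) (fun i => algebraMap A B (x i))
    (fun i q hq => show q ∈ Set.range j from hjr' ▸ ⟨i, hq⟩)
  have hK' : ∀ r : Γ(Z, ⊤), a ^ K • r ∈ LinearMap.range ρ.toLinearMap := by
    intro r
    choose p b hb using fun i => hρ.2 r i
    let P := Finset.univ.sup p
    have hb'' : ∀ i, ∃ b' : B, ρ b' = x i ^ P • r := fun i => ⟨x i ^ (P - p i) • b i, by
      rw [map_smul, show ρ (b i) = x i ^ p i • r by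
        rw [Algebra.smul_def, map_pow]
        exact (hb i).trans (congrArg (· ^ p i * r) (ρ.commutes (x i))),
        smul_smul, ← pow_add, Nat.sub_add_cancel (Finset.le_sup (f := p) (Finset.mem_univ i))]⟩
    choose b' hb' using hb''
    obtain ⟨q, hfam⟩ := exists_shift_isFam (x := x) (k := P) (m := b') fun i j => by
      obtain ⟨n, hn⟩ := hρ.1 (x j ^ P • b' i - x i ^ P • b' j) (by
        show ρ _ = 0
        rw [map_sub, map_smul, map_smul, hb', hb', smul_comm, sub_self]) i
      refine ⟨n, ?_⟩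
      rw [mul_pow, mul_comm, mul_smul, Algebra.smul_def (x i ^ n), map_pow, hn, smul_zero]
    obtain ⟨b₀, p', hb₀⟩ := hK _ _ hfam
    refine ⟨b₀, ?_⟩
    show ρ b₀ = a ^ K • r
    refine sub_eq_zero.1 (htf _ fun i => ⟨p' + (P + q), ?_⟩)
    have := congrArg ρ (hb₀ i)
    rw [map_zero, map_smul, map_sub, map_smul, map_smul, map_smul, hb'] at this
    rw [pow_add, mul_smul, ← neg_eq_zero, ← smul_neg, ← smul_neg, neg_sub, smul_sub (x i ^ (P + q))]
    refine Eq.trans ?_ this
    simp only [smul_smul, smul_sub]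
    ring_nf
  haveI : IsNoetherian A B := isNoetherian_of_isNoetherianRing_of_finite A B
  let μ : Γ(Z, ⊤) →ₗ[A] LinearMap.range ρ.toLinearMap :=
    LinearMap.codRestrict _ (LinearMap.lsmul A Γ(Z, ⊤) (a ^ K)) hK'
  refine Module.Finite.of_injective μ fun r s hrs => hreg.pow K (congrArg Subtype.val hrs)

end Groth.Agent.Pur25
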