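import Mathlib.AlgebraicGeometry.Morphisms.Finite
import Mathlib.AlgebraicGeometry.Morphisms.Flat
import Mathlib.AlgebraicGeometry.Morphisms.OpenImmersion
import Mathlib.AlgebraicGeometry.Noetherian
import Mathlib.RingTheory.Flat.Stability
import Mathlib.RingTheory.Flat.EquationalCriterion
import Mathlib.RingTheory.Localization.Finiteness
import Mathlib.RingTheory.Localization.BaseChange
import Mathlib.RingTheory.Finiteness.ModuleFinitePresentation
import Mathlib.RingTheory.RingHom.Flat

/-!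
# Finite models of finite schemes over quasi-affine opens `D(x₁, …, xₙ)`
-/

set_option autoImplicit false

universe u

open CategoryTheory AlgebraicGeometry TopologicalSpace Opposite

noncomputable section

namespace Groth.Agent.Pur25

/-- A finite subalgebra through which a locally finite algebra factors. -/
theorem exists_finite_subalgebra {A R : Type u} [CommRing A] [CommRing R] [Algebra A R] {ι : Type} [Finite ι]
    (x : ι → A) (G₀ : Finset R)
    (hG : ∀ (r : R) (i : ι), ∃ p : ℕ, x i ^ p • r ∈ Submodule.span A (G₀ : Set R)) :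
    ∃ B : Subalgebra A R, Module.Finite A B ∧ ∀ (r : R) (i : ι), ∃ p : ℕ, x i ^ p • r ∈ B := by
  classical
  cases nonempty_fintype ι
  let M : Submodule A R := Submodule.span A ↑(insert (1 : R) G₀)
  have hM : Submodule.span A (G₀ : Set R) ≤ M := Submodule.span_mono (by simp)
  have h1 : (1 : R) ∈ M := Submodule.subset_span (by simp)
  choose p hp using fun (gg : R × R) i => hG (gg.1 * gg.2) i
  let C := ((insert (1 : R) G₀) ×ˢ (insert (1 : R) G₀) ×ˢ (Finset.univ : Finset ι)).sup fun a => p (a.1, a.2.1) a.2.2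
  have hC : ∀ i, ∀ a ∈ M, ∀ b ∈ M, x i ^ C • (a * b) ∈ M := by
    intro i a ha b hb
    induction ha, hb using Submodule.span_induction₂ with
    | mem_mem a b ha hb =>
      have hle : p (a, b) i ≤ C := Finset.le_sup (f := fun a : R × R × ι => p (a.1, a.2.1) a.2.2) (b := (a, b, i))
        (Finset.mem_product.2 ⟨ha, Finset.mem_product.2 ⟨hb, Finset.mem_univ _⟩⟩)
      rw [← Nat.sub_add_cancel hle, pow_add, mul_smul]
      exact M.smul_mem _ (hM (hp (a, b) i))
    | zero_left => simp
    | zero_right => simp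
    | add_left x y z _ _ _ hx hy => rw [add_mul, smul_add]; exact M.add_mem hx hy
    | add_right x y z _ _ _ hx hy => rw [mul_add, smul_add]; exact M.add_mem hx hy
    | smul_left r x y _ _ hx => rw [smul_mul_assoc, smul_comm]; exact M.smul_mem _ hx
    | smul_right r x y _ _ hx => rw [mul_smul_comm, smul_comm]; exact M.smul_mem _ hx
  let I : Ideal A := Ideal.span (Set.range fun i => x i ^ C)
  have hI : ∀ c ∈ I, ∀ a ∈ M, ∀ b ∈ M, c • (a * b) ∈ M := fun c hc a ha b hb => by
    induction hc using Submodule.span_induction with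
    | mem c hc => obtain ⟨i, rfl⟩ := hc; exact hC i a ha b hb
    | zero => simp
    | add c d _ _ hc hd => rw [add_smul]; exact M.add_mem hc hd
    | smul r c _ hc => rw [smul_eq_mul, mul_smul]; exact M.smul_mem _ hc
  let N : Submodule A R := Submodule.span A {1} ⊔ I • M
  have hN : ∀ a ∈ N, ∀ b ∈ N, a * b ∈ N := by
    have hIM : ∀ a ∈ I • M, ∀ b ∈ I • M, a * b ∈ I • M := fun a ha b hb => by
      refine Submodule.smul_induction_on ha (fun c hc m hm => ?_) (fun y z hy hz => ?_)
      · skip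
        refine Submodule.smul_induction_on hb (fun d hd m' hm' => ?_) (fun y z hy hz => ?_)
        · rw [smul_mul_assoc, mul_smul_comm]
          exact Submodule.smul_mem_smul hc (hI d hd m hm m' hm')
        · rw [mul_add]; exact Submodule.add_mem _ hy hz
      · rw [add_mul]; exact Submodule.add_mem _ hy hz
    intro a ha b hb
    obtain ⟨a₁, ha₁, a₂, ha₂, rfl⟩ := Submodule.mem_sup.1 ha
    obtain ⟨b₁, hb₁, b₂, hb₂, rfl⟩ := Submodule.mem_sup.1 hb
    obtain ⟨s, rfl⟩ := Submodule.mem_span_singleton.1 ha₁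
    obtain ⟨t, rfl⟩ := Submodule.mem_span_singleton.1 hb₁
    rw [add_mul, mul_add, mul_add, smul_mul_smul_comm, one_mul, smul_mul_assoc, one_mul, mul_smul_comm, mul_one]
    exact N.add_mem (N.add_mem (Submodule.mem_sup_left (Submodule.smul_mem _ _ (Submodule.subset_span rfl)))
      (Submodule.mem_sup_right (Submodule.smul_mem _ s hb₂)))
      (N.add_mem (Submodule.mem_sup_right (Submodule.smul_mem _ t ha₂)) (Submodule.mem_sup_right (hIM _ ha₂ _ hb₂)))
  let B : Subalgebra A R := N.toSubalgebra (Submodule.mem_sup_left (Submodule.subset_span rfl)) fun a b ha hb => hN a ha b hb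
  have hfg : N.FG := (Submodule.fg_span_singleton 1).sup
    (Submodule.FG.smul (Submodule.fg_span (Set.finite_range _)) (Submodule.fg_span (Finset.finite_toSet _)))
  refine ⟨B, Module.Finite.iff_fg.2 hfg, fun r i => ?_⟩
  obtain ⟨p', hp'⟩ := hG r i
  refine ⟨C + p', ?_⟩
  show x i ^ (C + p') • r ∈ N
  rw [pow_add, mul_smul]
  exact Submodule.mem_sup_right (Submodule.smul_mem_smul (Submodule.subset_span ⟨i, rfl⟩) (hM hp'))

/-- The ring map to global sections of a scheme over `Spec A`. -/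
def gΓ {A : Type u} [CommRing A] {Z : Scheme.{u}} (g : Z ⟶ Spec (CommRingCat.of A)) : CommRingCat.of A ⟶ Γ(Z, ⊤) :=
  (Scheme.ΓSpecIso (CommRingCat.of A)).inv ≫ g.appTop

theorem toSpecΓ_gΓ {A : Type u} [CommRing A] {Z : Scheme.{u}} (g : Z ⟶ Spec (CommRingCat.of A)) :
    Z.toSpecΓ ≫ Spec.map (gΓ g) = g := by
  rw [gΓ, Spec.map_comp, ← Scheme.toSpecΓ_naturality_assoc, ← SpecMap_ΓSpecIso_hom, ← Spec.map_comp,
    Iso.inv_hom_id, Spec.map_id, Category.comp_id]

/-- An algebra mapping to the global sections with torsion kernel and cokernel is a model. -/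
theorem isModel_of_torsion {A : Type u} [CommRing A] {ι : Type} {x : ι → A} {Z : Scheme.{u}} [CompactSpace Z]
    [QuasiSeparatedSpace Z] (g : Z ⟶ Spec (CommRingCat.of A)) {B : Type u} [CommRing B] [Algebra A B]
    (ρ : B →+* Γ(Z, ⊤)) (hρ : ∀ a, ρ (algebraMap A B a) = gΓ g a)
    (hker : ∀ b, ρ b = 0 → ∀ i, ∃ p : ℕ, algebraMap A B (x i) ^ p * b = 0)
    (hcoker : ∀ (r : Γ(Z, ⊤)) (i : ι), ∃ (p : ℕ) (b : B), ρ b = gΓ g (x i) ^ p * r)
    (hcov : ∀ z : Z, ∃ i, z ∈ Z.basicOpen (gΓ g (x i)))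
    (haff : ∀ i, IsAffineOpen (Z.basicOpen (gΓ g (x i)))) :
    IsOpenImmersion (Z.toSpecΓ ≫ Spec.map (CommRingCat.ofHom ρ)) ∧
      (Z.toSpecΓ ≫ Spec.map (CommRingCat.ofHom ρ)) ≫ Spec.map (CommRingCat.ofHom (algebraMap A B)) = g ∧
      Set.range (Z.toSpecΓ ≫ Spec.map (CommRingCat.ofHom ρ)) = {q | ∃ i, algebraMap A B (x i) ∉ q.asIdeal} ∧
      ∀ i, @IsLocalization.Away B _ (algebraMap A B (x i)) Γ(Z, Z.basicOpen (gΓ g (x i))) _
        (((Z.presheaf.map (homOfLE le_top).op).hom : Γ(Z, ⊤) →+* Γ(Z, Z.basicOpen (gΓ g (x i)))).comp ρ).toAlgebra := by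
  let W : ι → Z.Opens := fun i => Z.basicOpen (gΓ g (x i))
  letI : ∀ i, Algebra Γ(Z, ⊤) Γ(Z, W i) := fun i => (Z.presheaf.map (homOfLE le_top).op).hom.toAlgebra
  haveI : ∀ i, IsLocalization.Away (gΓ g (x i)) Γ(Z, W i) := fun i =>
    isLocalization_basicOpen_of_qcqs isCompact_univ isQuasiSeparated_univ _
  letI : ∀ i, Algebra B Γ(Z, W i) := fun i => ((algebraMap Γ(Z, ⊤) Γ(Z, W i)).comp ρ).toAlgebra
  have hy : ∀ i, algebraMap B Γ(Z, W i) (algebraMap A B (x i)) = algebraMap Γ(Z, ⊤) Γ(Z, W i) (gΓ g (x i)) :=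
    fun i => congrArg (algebraMap Γ(Z, ⊤) Γ(Z, W i)) (hρ (x i))
  have hloc : ∀ i, IsLocalization.Away (algebraMap A B (x i)) Γ(Z, W i) := fun i => by
    have hu : IsUnit (algebraMap B Γ(Z, W i) (algebraMap A B (x i))) :=
      hy i ▸ IsLocalization.Away.algebraMap_isUnit _
    constructor; constructor
    · rintro ⟨_, n, rfl⟩
      rw [map_pow]
      exact hu.pow n
    · intro z
      obtain ⟨n, r, hr⟩ := IsLocalization.Away.surj (gΓ g (x i)) z
      obtain ⟨p, b, hb⟩ := hcoker r i
      refine ⟨⟨b, _, n + p, rfl⟩, ?_⟩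
      show z * algebraMap B Γ(Z, W i) (algebraMap A B (x i) ^ (n + p)) = algebraMap Γ(Z, ⊤) Γ(Z, W i) (ρ b)
      rw [hb, map_mul, ← hr, map_pow, map_pow, hy]
      ring
    · intro a b hab
      obtain ⟨⟨_, n, rfl⟩, hn⟩ := IsLocalization.exists_of_eq (M := Submonoid.powers (gΓ g (x i)))
        (S := Γ(Z, W i)) (x := ρ a) (y := ρ b) hab
      obtain ⟨p, hp⟩ := hker (algebraMap A B (x i) ^ n * (a - b)) (by
        rw [map_mul, map_pow, hρ, map_sub, mul_sub]; exact sub_eq_zero.2 hn) i
      refine ⟨⟨_, p + n, rfl⟩, ?_⟩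
      show algebraMap A B (x i) ^ (p + n) * a = algebraMap A B (x i) ^ (p + n) * b
      rw [← sub_eq_zero, ← hp]; ring
  let j : Z ⟶ Spec (CommRingCat.of B) := Z.toSpecΓ ≫ Spec.map (CommRingCat.ofHom ρ)
  let Dy : ι → (Spec (CommRingCat.of B)).Opens := fun i => PrimeSpectrum.basicOpen (algebraMap A B (x i))
  have hjW : ∀ i, j ⁻¹ᵁ Dy i = W i := fun i => by
    rw [Scheme.Hom.comp_preimage]
    refine Eq.trans ?_ (Scheme.toSpecΓ_preimage_basicOpen Z (gΓ g (x i)))
    refine congrArg (Z.toSpecΓ ⁻¹ᵁ ·) ?_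
    show Spec.map (CommRingCat.ofHom ρ) ⁻¹ᵁ (PrimeSpectrum.basicOpen (algebraMap A B (x i)) : (Spec (CommRingCat.of B)).Opens) = _
    rw [← hρ]
    rfl
  have hjfrom : ∀ i, (haff i).fromSpec ≫ j = Spec.map (CommRingCat.ofHom (algebraMap B Γ(Z, W i))) := fun i => by
    rw [← Category.assoc, IsAffineOpen.fromSpec_toSpecΓ, ← Spec.map_comp]
    rfl
  have hoi : ∀ i, IsOpenImmersion ((haff i).fromSpec ≫ j) := fun i => by
    rw [hjfrom i]
    have := hloc i
    exact IsOpenImmersion.of_isLocalization (algebraMap A B (x i))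
  have hinj : Function.Injective j := by
    intro z z' hzz
    obtain ⟨i, hi⟩ := hcov z
    have hz' : z' ∈ W i := by
      change z ∈ W i at hi
      rw [← hjW i] at hi ⊢
      show j z' ∈ Dy i
      rw [← hzz]; exact hi
    change z ∈ W i at hi
    rw [← SetLike.mem_coe, ← (haff i).range_fromSpec] at hi hz'
    obtain ⟨a, rfl⟩ := hi
    obtain ⟨b, rfl⟩ := hz'
    rw [← Scheme.Hom.comp_apply, ← Scheme.Hom.comp_apply] at hzz
    rw [(hoi i).base_open.injective hzz]
  refine ⟨?_, ?_, ?_, hloc⟩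
  · refine IsOpenImmersion.of_forall_source_exists j hinj fun z => ?_
    obtain ⟨i, hi⟩ := hcov z
    exact ⟨_, (haff i).fromSpec, inferInstance, by rw [IsAffineOpen.opensRange_fromSpec]; exact hi, hoi i⟩
  · have h1 : CommRingCat.ofHom (algebraMap A B) ≫ CommRingCat.ofHom ρ = gΓ g :=
      CommRingCat.hom_ext (RingHom.ext hρ)
    rw [Category.assoc, ← Spec.map_comp, h1]
    exact toSpecΓ_gΓ g
  · ext q
    constructor
    · rintro ⟨z, rfl⟩
      obtain ⟨i, hi⟩ := hcov z
      change z ∈ W i at hi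
      rw [← hjW i] at hi
      exact ⟨i, hi⟩
    · rintro ⟨i, hi⟩
      obtain ⟨a, ha⟩ : q ∈ Set.range ((haff i).fromSpec ≫ j) := by
        rw [hjfrom i]
        show q ∈ Set.range (PrimeSpectrum.comap (algebraMap B Γ(Z, W i)))
        have := hloc i
        rw [PrimeSpectrum.localization_away_comap_range Γ(Z, W i) (algebraMap A B (x i))]
        exact hi
      exact ⟨_, ha⟩

variable {A : Type u} [CommRing A] [IsNoetherianRing A] {ι : Type} [Finite ι] {x : ι → A}
  {U : (Spec (CommRingCat.of A)).Opens}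

/-- A finite scheme over `D(x)` is the preimage of `D(x)` in a finite `A`-scheme; if it is flat, the
model is projective on each `D(x i)`. -/
theorem exists_model (hU : ∀ q : PrimeSpectrum A, q ∈ U ↔ ∃ i, x i ∉ q.asIdeal)
    {Z : Scheme.{u}} (h : Z ⟶ (U : Scheme.{u})) [IsFinite h] :
    ∃ (B : Type u) (_ : CommRing B) (_ : Algebra A B) (_ : Module.Finite A B)
      (j : Z ⟶ Spec (CommRingCat.of B)), IsOpenImmersion j ∧
      j ≫ Spec.map (CommRingCat.ofHom (algebraMap A B)) = h ≫ U.ι ∧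
      Set.range j = {q | ∃ i, algebraMap A B (x i) ∉ q.asIdeal} ∧
      (Flat h → ∀ i, Module.Projective (Localization (Submonoid.powers (x i)))
        (LocalizedModule (Submonoid.powers (x i)) B)) := by
  classical
  cases nonempty_fintype ι
  let g : Z ⟶ Spec (CommRingCat.of A) := h ≫ U.ι
  haveI : IsNoetherian (Spec (CommRingCat.of A)) := inferInstance
  haveI : QuasiCompact U.ι := inferInstance
  haveI : LocallyOfFiniteType g := inferInstanceAs (LocallyOfFiniteType (h ≫ U.ι))
  haveI : QuasiCompact g := inferInstanceAs (QuasiCompact (h ≫ U.ι))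
  haveI : IsLocallyNoetherian Z := LocallyOfFiniteType.isLocallyNoetherian g
  haveI : CompactSpace Z := QuasiCompact.compactSpace_of_compactSpace g
  haveI : QuasiSeparatedSpace Z := inferInstance
  let ψ : CommRingCat.of A ⟶ Γ(Z, ⊤) := gΓ g
  letI : Algebra A Γ(Z, ⊤) := ψ.hom.toAlgebra
  have hg : Z.toSpecΓ ≫ Spec.map ψ = g := toSpecΓ_gΓ g
  let Db : ι → (Spec (CommRingCat.of A)).Opens := fun i => PrimeSpectrum.basicOpen (x i)
  let W : ι → Z.Opens := fun i => Z.basicOpen (ψ (x i))
  have hW : ∀ i, W i = g ⁻¹ᵁ (Db i) := fun i => by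
    conv_rhs => rw [← hg]
    rw [Scheme.Hom.comp_preimage]
    exact ((congrArg (Z.toSpecΓ ⁻¹ᵁ ·) (show Spec.map ψ ⁻¹ᵁ (Db i) =
      (PrimeSpectrum.basicOpen (ψ (x i)) : (Spec Γ(Z, ⊤)).Opens) from rfl)).trans (Scheme.toSpecΓ_preimage_basicOpen _ _)).symm
  have hDU : ∀ i, (Db i) ≤ U := fun i q hq => (hU q).2 ⟨i, hq⟩
  have hVaff : ∀ i, IsAffineOpen (U.ι ⁻¹ᵁ (Db i)) := fun i =>
    (Scheme.Hom.isAffineOpen_iff_of_isOpenImmersion U.ι).1 (by
      rw [Scheme.Hom.image_preimage_eq_opensRange_inf, Scheme.Opens.opensRange_ι, inf_eq_right.2 (hDU i)]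
      exact IsAffineOpen.Spec_basicOpen (R := CommRingCat.of A) (x i))
  have hWaff : ∀ i, IsAffineOpen (W i) := fun i => by
    rw [hW i, Scheme.Hom.comp_preimage]
    exact (hVaff i).preimage h
  letI : ∀ i, Algebra Γ(Z, ⊤) Γ(Z, W i) := fun i => (Z.presheaf.map (homOfLE le_top).op).hom.toAlgebra
  haveI : ∀ i, IsLocalization.Away (ψ (x i)) Γ(Z, W i) := fun i =>
    isLocalization_basicOpen_of_qcqs isCompact_univ isQuasiSeparated_univ _
  letI : ∀ i, Algebra A Γ(Z, W i) := fun i => ((algebraMap Γ(Z, ⊤) Γ(Z, W i)).comp (algebraMap A Γ(Z, ⊤))).toAlgebra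
  haveI : ∀ i, IsScalarTower A Γ(Z, ⊤) Γ(Z, W i) := fun i => IsScalarTower.of_algebraMap_eq fun _ => rfl
  have happ : ∀ i (a : A), algebraMap A Γ(Z, W i) a =
      g.appLE ⊤ (W i) le_top ((Scheme.ΓSpecIso (CommRingCat.of A)).inv a) := fun i a => rfl
  -- finiteness over `A_x`
  have hfin : ∀ i, ∃ G : Finset Γ(Z, ⊤), ∀ r : Γ(Z, ⊤), ∃ p : ℕ, x i ^ p • r ∈ Submodule.span A (G : Set Γ(Z, ⊤)) := by
    intro i
    let D : (Spec (CommRingCat.of A)).Opens := Db i
    let V := U.ι ⁻¹ᵁ D
    have hle : W i ≤ h ⁻¹ᵁ V := by rw [hW i, Scheme.Hom.comp_preimage]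
    have hu : IsUnit (algebraMap A Γ(Z, W i) (x i)) := by
      rw [IsScalarTower.algebraMap_apply A Γ(Z, ⊤) Γ(Z, W i)]
      exact IsLocalization.Away.algebraMap_isUnit (ψ (x i))
    let χ : CommRingCat.of (Localization.Away (x i)) ⟶ Γ(Z, W i) :=
      CommRingCat.ofHom (IsLocalization.Away.lift (x i) (g := algebraMap A Γ(Z, W i)) hu)
    have hχ : χ.hom.Finite := by
      have h1 : (h.appLE V (W i) hle).hom.Finite := by
        have key : ∀ (W' : Z.Opens) (_ : W' = h ⁻¹ᵁ V) (e : W' ≤ h ⁻¹ᵁ V), (h.appLE V W' e).hom.Finite := by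
          rintro W' rfl e
          rw [← Scheme.Hom.app_eq_appLE]
          exact h.finite_app _ (hVaff i)
        exact key (W i) (by rw [hW i, Scheme.Hom.comp_preimage]) hle
      have hV : D ≤ U.ι ''ᵁ V := by
        rw [Scheme.Hom.image_preimage_eq_opensRange_inf, Scheme.Opens.opensRange_ι, inf_eq_right.2 (hDU i)]
      have h4 : (U.ι.appLE D V le_rfl).hom.Finite := by
        haveI : IsIso (U.ι.appLE D V le_rfl) := by
          rw [← Scheme.Hom.app_eq_appLE]
          exact Scheme.Hom.isIso_app U.ι D (by rw [Scheme.Opens.opensRange_ι]; exact hDU i)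
        exact RingHom.Finite.of_surjective _ (ConcreteCategory.bijective_of_isIso (U.ι.appLE D V le_rfl)).2
      letI : Algebra A Γ(Spec (CommRingCat.of A), D) := StructureSheaf.openAlgebra A (op D)
      haveI : IsLocalization.Away (x i) Γ(Spec (CommRingCat.of A), D) := StructureSheaf.IsLocalization.to_basicOpen A (x i)
      have h5 : χ.hom = ((h.appLE V (W i) hle).hom.comp (U.ι.appLE D V le_rfl).hom).comp
          (IsLocalization.algEquiv (Submonoid.powers (x i)) (Localization.Away (x i))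
            Γ(Spec (CommRingCat.of A), D)).toRingEquiv.toRingHom := by
        refine IsLocalization.ringHom_ext (Submonoid.powers (x i)) (RingHom.ext fun a => ?_)
        simp only [χ, RingHom.comp_apply, CommRingCat.hom_ofHom]
        rw [IsLocalization.Away.lift_eq, happ,
          show (IsLocalization.algEquiv (Submonoid.powers (x i)) (Localization.Away (x i))
            Γ(Spec (CommRingCat.of A), D)).toRingEquiv.toRingHom (algebraMap A _ a) = algebraMap A _ a from
            (IsLocalization.algEquiv (Submonoid.powers (x i)) (Localization.Away (x i))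
            Γ(Spec (CommRingCat.of A), D)).commutes a]
        show _ = (U.ι.appLE D V le_rfl ≫ h.appLE V (W i) hle) ((Spec (CommRingCat.of A)).presheaf.map (homOfLE le_top).op
          ((Scheme.ΓSpecIso (CommRingCat.of A)).inv a))
        rw [Scheme.Hom.appLE_comp_appLE]
        exact (ConcreteCategory.congr_hom (Scheme.Hom.map_appLE g (hW i).le (homOfLE le_top).op) _).symm
      rw [h5]
      exact (h1.comp h4).comp (RingHom.Finite.of_surjective _ (RingEquiv.surjective _))
    algebraize [χ.hom]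
    haveI : IsScalarTower A (Localization.Away (x i)) Γ(Z, W i) :=
      IsScalarTower.of_algebraMap_eq fun a => (IsLocalization.Away.lift_eq (x i) hu a).symm
    haveI : IsLocalizedModule (Submonoid.powers (x i)) (IsScalarTower.toAlgHom A Γ(Z, ⊤) Γ(Z, W i)).toLinearMap := by
      rw [isLocalizedModule_iff_isLocalization]
      rw [Algebra.algebraMapSubmonoid_powers]
      exact inferInstanceAs (IsLocalization.Away (ψ (x i)) Γ(Z, W i))
    obtain ⟨s, hs⟩ := (Module.finite_def.1 (inferInstance : Module.Finite (Localization.Away (x i)) Γ(Z, W i)))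
    refine ⟨IsLocalizedModule.finsetIntegerMultiple (Submonoid.powers (x i))
      (IsScalarTower.toAlgHom A Γ(Z, ⊤) Γ(Z, W i)).toLinearMap s, fun r => ?_⟩
    obtain ⟨⟨_, q, rfl⟩, hq⟩ := multiple_mem_span_of_mem_localization_span (Submonoid.powers (x i))
      (Localization.Away (x i)) (s : Set Γ(Z, W i)) ((IsScalarTower.toAlgHom A Γ(Z, ⊤) Γ(Z, W i)).toLinearMap r)
      (hs ▸ Submodule.mem_top)
    obtain ⟨⟨_, p, rfl⟩, hp⟩ := IsLocalizedModule.smul_mem_finsetIntegerMultiple_span (Submonoid.powers (x i))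
      (IsScalarTower.toAlgHom A Γ(Z, ⊤) Γ(Z, W i)).toLinearMap (x i ^ q • r) s
      (by rw [map_smul]; exact hq)
    exact ⟨p + q, by rw [pow_add, mul_smul]; exact hp⟩
  choose G hG using hfin
  obtain ⟨B, hB, hBr⟩ := exists_finite_subalgebra x (Finset.univ.biUnion G) fun r i => by
    obtain ⟨p, hp⟩ := hG i r
    exact ⟨p, Submodule.span_mono (by intro a ha; exact Finset.mem_biUnion.2 ⟨i, Finset.mem_univ _, ha⟩) hp⟩
  -- localizations of the model
  have hcov : ∀ z : Z, ∃ i, z ∈ W i := fun z => by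
    obtain ⟨i, hi⟩ := (hU (g z)).1 (h z).2
    exact ⟨i, by rw [hW i]; exact hi⟩
  obtain ⟨hj, hjg, hjr, hloc⟩ := isModel_of_torsion (x := x) g B.val.toRingHom (fun a => rfl)
    (fun b hb i => ⟨0, by rw [pow_zero, one_mul]; exact Subtype.ext hb⟩)
    (fun r i => by
      obtain ⟨p, hp⟩ := hBr r i
      refine ⟨p, ⟨_, hp⟩, ?_⟩
      show x i ^ p • r = _
      rw [Algebra.smul_def, map_pow]
      rfl)
    hcov hWaff
  refine ⟨B, inferInstance, inferInstance, hB, _, hj, hjg, hjr, ?_⟩
  intro hflat i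
  haveI : IsLocalizedModule (Submonoid.powers (x i)) (IsScalarTower.toAlgHom A B Γ(Z, W i)).toLinearMap := by
    rw [isLocalizedModule_iff_isLocalization, Algebra.algebraMapSubmonoid_powers]
    exact hloc i
  haveI : Flat g := inferInstanceAs (Flat (h ≫ U.ι))
  haveI : Module.Flat A Γ(Z, W i) := by
    have h1 := RingHom.Flat.comp (RingHom.Flat.of_bijective
      (ConcreteCategory.bijective_of_isIso (Scheme.ΓSpecIso (CommRingCat.of A)).inv))
      (HasRingHomProperty.appLE @Flat g inferInstance ⟨⊤, isAffineOpen_top _⟩ ⟨W i, hWaff i⟩ le_top)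
    exact h1
  haveI : Module.Flat A (LocalizedModule (Submonoid.powers (x i)) B) :=
    Module.Flat.of_linearEquiv (IsLocalizedModule.iso (Submonoid.powers (x i))
      (IsScalarTower.toAlgHom A B Γ(Z, W i)).toLinearMap)
  haveI : Module.Flat (Localization (Submonoid.powers (x i))) (LocalizedModule (Submonoid.powers (x i)) B) :=
    Module.flat_iff_of_isLocalization (Localization (Submonoid.powers (x i))) (Submonoid.powers (x i))
      (LocalizedModule (Submonoid.powers (x i)) B) |>.2 inferInstance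
  haveI : IsNoetherianRing (Localization (Submonoid.powers (x i))) :=
    IsLocalization.isNoetherianRing (Submonoid.powers (x i)) _ inferInstance
  haveI := Module.finitePresentation_of_finite (Localization (Submonoid.powers (x i)))
    (LocalizedModule (Submonoid.powers (x i)) B)
  exact Module.Flat.projective_of_finitePresentation

end Groth.Agent.Pur25
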