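import Groth.Agent.Lib.Pur25.Lift
import Groth.Agent.Lib.Pur25.Depth
import Groth.Agent.Lib.Pur25.Model
import Groth.Agent.Lib.FEtEq25.Graph
import Groth.Agent.Lib.Hens.Pair
import Groth.Prelude.Def_Pi1
import Mathlib.AlgebraicGeometry.Morphisms.ClosedImmersion

/-!
# Full faithfulness of restriction to the trace of a hypersurface
-/

set_option autoImplicit false

universe u

open CategoryTheory CategoryTheory.Limits AlgebraicGeometry TopologicalSpace

noncomputable section

namespace Groth.Agent.Pur25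

variable {A : Type u} [CommRing A] [IsNoetherianRing A] {ι : Type} [Finite ι] {x : ι → A}
  {U : (Spec (CommRingCat.of A)).Opens}

theorem mem_range_hypersurface (f : A) (u : (U : Scheme.{u})) :
    u ∈ Set.range (pullback.fst U.ι (Spec.map (CommRingCat.ofHom (Ideal.Quotient.mk (Ideal.span {f}))))) ↔
      f ∈ (U.ι u : PrimeSpectrum A).asIdeal := by
  rw [Scheme.Pullback.range_fst, Set.mem_preimage]
  show (U.ι u : PrimeSpectrum A) ∈ Set.range (PrimeSpectrum.comap (Ideal.Quotient.mk (Ideal.span {f}))) ↔ _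
  rw [range_comap_of_surjective _ _ Ideal.Quotient.mk_surjective, Ideal.mk_ker,
    PrimeSpectrum.zeroLocus_span]
  exact Set.singleton_subset_iff

/-- Restriction of finite étale covers from `D(x)` to `D(x) ∩ V(f)` is fully faithful when `H⁰` and
`H¹` are killed by a power of `f` and `(A, f)` is henselian. -/
theorem fullFaithful_hypersurface (hU : ∀ q : PrimeSpectrum A, q ∈ U ↔ ∃ i, x i ∉ q.asIdeal) (f : A)
    [HenselianRing A (Ideal.span {f})] (hfx : f ∈ (Ideal.span (Set.range x)).radical) {N : ℕ}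
    (h0 : Kill0 x A (f ^ N)) (h1 : Kill1 x A (f ^ N)) :
    (FEt.restrict (pullback.fst U.ι (Spec.map (CommRingCat.ofHom (Ideal.Quotient.mk (Ideal.span {f})))))).Full ∧
    (FEt.restrict (pullback.fst U.ι (Spec.map (CommRingCat.ofHom (Ideal.Quotient.mk (Ideal.span {f})))))).Faithful := by
  set f₀ := pullback.fst U.ι (Spec.map (CommRingCat.ofHom (Ideal.Quotient.mk (Ideal.span {f})))) with hf₀
  haveI : IsClosedImmersion (Spec.map (CommRingCat.ofHom (Ideal.Quotient.mk (Ideal.span {f})))) :=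
    IsClosedImmersion.spec_of_surjective _ Ideal.Quotient.mk_surjective
  have hT : ∀ S : Set (U : Scheme.{u}), IsClopen S → S.Nonempty → (S ∩ Set.range f₀).Nonempty := by
    intro S hS hne
    by_contra hc
    have hO : IsOpen (U.ι '' S) := U.ι.isOpenEmbedding.isOpenMap _ hS.2
    have hO' : IsOpen (U.ι '' Sᶜ) := U.ι.isOpenEmbedding.isOpenMap _ hS.1.isOpen_compl
    obtain ⟨u, hu⟩ := hne
    refine clopen_eq_empty (x := x) (B := A) f ?_ h0 (O := U.ι '' S) (O' := U.ι '' Sᶜ) hO hO' ?_ ?_ (U.ι u)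
      ((hU _).1 u.2) ⟨u, hu, rfl⟩
    · exact HenselianRing.jac
    · intro q hq
      obtain ⟨v, rfl⟩ : q ∈ Set.range U.ι := by rw [Scheme.Opens.range_ι]; exact (hU q).2 hq
      exact ⟨fun ⟨a, ha, e⟩ ⟨b, hb, e'⟩ => ha (U.ι.isOpenEmbedding.injective (e.trans e'.symm) ▸ hb),
        fun hn => ⟨v, fun hv => hn ⟨v, hv, rfl⟩, rfl⟩⟩
    · rintro q hqf hq ⟨v, hv, rfl⟩
      exact hc ⟨v, hv, (mem_range_hypersurface f v).2 hqf⟩
  refine ⟨FEtEq25.full_restrict _ hT ?_, FEtEq25.faithful_restrict _ hT⟩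
  intro Z h hh C hC
  have : IsFinite h := hh.1
  have : Etale h := hh.2
  obtain ⟨B, _, _, _, j, hj, hjh, hjr, hproj⟩ := exists_model hU h
  haveI : IsNoetherianRing B := IsNoetherianRing.of_finite A B
  haveI : HenselianRing B (Ideal.span {algebraMap A B f}) := by
    have := Hens.henselianRing_of_isIntegral (B := B) (inferInstance : HenselianRing A (Ideal.span {f}))
    rwa [Ideal.map_span, Set.image_singleton] at this
  obtain ⟨K, hK0, hK1⟩ := exists_kill_of_projective (x := x) B (hproj inferInstance) hfx h0 h1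
  rw [← pow_add] at hK0 hK1
  haveI : IsClosedImmersion (pullback.fst h f₀) := inferInstance
  have he := (pullback.fst h f₀).isClosedEmbedding.isInducing
  obtain ⟨O, hO, hOC⟩ := he.isOpen_iff.1 hC.2
  obtain ⟨O', hO', hOC'⟩ := he.isOpen_iff.1 hC.1.isOpen_compl
  have hqZ : ∀ q : PrimeSpectrum B, algebraMap A B f ∈ q.asIdeal → (∃ i, algebraMap A B (x i) ∉ q.asIdeal) →
      ∃ p : ↥(pullback h f₀), j (pullback.fst h f₀ p) = q := by
    intro q hqf hq
    obtain ⟨z, rfl⟩ : q ∈ Set.range j := hjr ▸ hq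
    suffices z ∈ Set.range (pullback.fst h f₀) by
      obtain ⟨p, rfl⟩ := this
      exact ⟨p, rfl⟩
    rw [Scheme.Pullback.range_fst, Set.mem_preimage, hf₀, mem_range_hypersurface, ← Scheme.Hom.comp_apply,
      ← hjh, Scheme.Hom.comp_apply]
    exact hqf
  obtain ⟨D, D', hD, hD', hDD, hDO⟩ := exists_lift_clopen (x := x) f hK0 hK1
    (O := j '' O) (O' := j '' O') (j.isOpenEmbedding.isOpenMap _ hO) (j.isOpenEmbedding.isOpenMap _ hO') (by
      intro q hqf hq
      obtain ⟨p, rfl⟩ := hqZ q hqf hq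
      exact (j.isOpenEmbedding.injective.mem_set_image.trans (Set.ext_iff.1 hOC' p)).trans
        (not_congr (j.isOpenEmbedding.injective.mem_set_image.trans (Set.ext_iff.1 hOC p))).symm)
  have hjz : ∀ z : Z, ∃ i, algebraMap A B (x i) ∉ (j z : PrimeSpectrum B).asIdeal := fun z =>
    (hjr ▸ Set.mem_range_self z : (j z : PrimeSpectrum B) ∈ {q : PrimeSpectrum B | ∃ i, algebraMap A B (x i) ∉ q.asIdeal})
  refine ⟨j ⁻¹' D, ⟨⟨?_⟩, hD.preimage j.continuous⟩, ?_⟩
  · rw [show (j ⁻¹' D)ᶜ = j ⁻¹' D' from Set.ext fun z => (hDD _ (hjz z)).symm]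
    exact hD'.preimage j.continuous
  · ext p
    have hz : f ∈ (U.ι (h (pullback.fst h f₀ p)) : PrimeSpectrum A).asIdeal :=
      (mem_range_hypersurface f _).1 ⟨pullback.snd h f₀ p, by
        rw [← Scheme.Hom.comp_apply, ← Scheme.Hom.comp_apply, pullback.condition]⟩
    rw [← Scheme.Hom.comp_apply, ← hjh, Scheme.Hom.comp_apply] at hz
    exact (hDO _ hz (hjz _)).trans (j.isOpenEmbedding.injective.mem_set_image.trans (Set.ext_iff.1 hOC p))

/-- The punctured spectrum is covered by generators of the maximal ideal. -/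
theorem mem_puncturedSpec_iff [IsLocalRing A] (hx : Ideal.span (Set.range x) = IsLocalRing.maximalIdeal A)
    (q : PrimeSpectrum A) : q ∈ FEt.puncturedSpec A ↔ ∃ i, x i ∉ q.asIdeal := by
  show q ≠ IsLocalRing.closedPoint A ↔ _
  rw [not_iff_comm]
  constructor
  · intro h
    push Not at h
    refine PrimeSpectrum.ext ((IsLocalRing.le_maximalIdeal q.isPrime.ne_top).antisymm ?_)
    rw [← hx, Ideal.span_le]
    rintro _ ⟨i, rfl⟩
    exact h i
  · rintro rfl ⟨i, hi⟩
    exact hi (show x i ∈ IsLocalRing.maximalIdeal A from hx ▸ Ideal.subset_span ⟨i, rfl⟩)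

end Groth.Agent.Pur25
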