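import Groth.Agent.Lib.Pur25.Descend
import Groth.Agent.Lib.Pur25.Full
import Groth.Agent.Lib.Branch14.Completion
import Mathlib.RingTheory.Etale.Descent

/-!
# Extending covers of punctured spectra after a faithfully flat base change
-/

set_option autoImplicit false

universe u

open CategoryTheory CategoryTheory.Limits AlgebraicGeometry TopologicalSpace TensorProduct

noncomputable section

namespace Groth.Agent.Pur25

variable {A : Type u} [CommRing A] [IsNoetherianRing A] {ι : Type} [Finite ι] {x : ι → A}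
  {U : (Spec (CommRingCat.of A)).Opens}

/-- A model restricted to `U` is the original scheme. -/
theorem exists_iso_of_model (hU : ∀ q : PrimeSpectrum A, q ∈ U ↔ ∃ i, x i ∉ q.asIdeal)
    {Z : Scheme.{u}} (h : Z ⟶ (U : Scheme.{u})) {B : Type u} [CommRing B] [Algebra A B]
    (j : Z ⟶ Spec (CommRingCat.of B)) [IsOpenImmersion j]
    (hjg : j ≫ Spec.map (CommRingCat.ofHom (algebraMap A B)) = h ≫ U.ι)
    (hjr : Set.range j = {q | ∃ i, algebraMap A B (x i) ∉ q.asIdeal}) :
    ∃ ε : pullback (Spec.map (CommRingCat.ofHom (algebraMap A B))) U.ι ≅ Z, ε.hom ≫ h = pullback.snd _ _ := by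
  set π := Spec.map (CommRingCat.ofHom (algebraMap A B))
  have hr : Set.range (pullback.fst π U.ι) = Set.range j := by
    rw [Scheme.Pullback.range_fst, Scheme.Opens.range_ι, hjr]
    ext q
    exact hU _
  refine ⟨IsOpenImmersion.isoOfRangeEq (pullback.fst π U.ι) j hr, ?_⟩
  rw [← cancel_mono U.ι, Category.assoc, ← hjg, IsOpenImmersion.isoOfRangeEq_hom_fac_assoc, pullback.condition]

/-- The structure map of an algebra, on spectra. -/
abbrev baseMap (A S : Type u) [CommRing A] [CommRing S] [Algebra A S] :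
    Spec (CommRingCat.of S) ⟶ Spec (CommRingCat.of A) :=
  Spec.map (CommRingCat.ofHom (algebraMap A S))

set_option maxHeartbeats 800000 in
/-- Finite schemes over `U` which extend after a faithfully flat base change extend. -/
theorem extends_of_base_change (hU : ∀ q : PrimeSpectrum A, q ∈ U ↔ ∃ i, x i ∉ q.asIdeal)
    (S : Type u) [CommRing S] [IsNoetherianRing S] [Algebra A S] [Module.FaithfullyFlat A S]
    (hq : FormalGlueH7.QBij S (Ideal.span (Set.range x)))
    {Z : Scheme.{u}} (v : Z ⟶ (U : Scheme.{u})) [IsFinite v]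
    {T : Scheme.{u}} (t : T ⟶ Spec (CommRingCat.of S)) [IsFinite t]
    (ε : pullback t (pullback.snd U.ι (baseMap A S)) ≅
      pullback v (pullback.fst U.ι (baseMap A S)))
    (hε : ε.hom ≫ pullback.snd v _ = pullback.snd t _) :
    ∃ (Y : Scheme.{u}) (b : Y ⟶ Spec (CommRingCat.of A)), IsFinite b ∧ (Etale t → Etale b) ∧
      (∃ e : pullback b U.ι ≅ Z, e.hom ≫ v = pullback.snd _ _) ∧
      ∃ e' : pullback b (baseMap A S) ≅ T, e'.hom ≫ t = pullback.snd _ _ := by
  haveI : IsAffine T := isAffine_of_isAffineHom t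
  letI : Algebra S Γ(T, ⊤) := (gΓ t).hom.toAlgebra
  have ht : T.isoSpec.hom ≫ Spec.map (CommRingCat.ofHom (algebraMap S Γ(T, ⊤))) = t := toSpecΓ_gΓ t
  haveI : Module.Finite S Γ(T, ⊤) := by
    rw [← RingHom.finite_algebraMap]
    exact (IsFinite.finite_app (f := t) ⊤ (isAffineOpen_top _)).comp (RingHom.Finite.of_surjective _
      (ConcreteCategory.bijective_of_isIso (Scheme.ΓSpecIso (CommRingCat.of S)).inv).2)
  let pr := pullback.fst v (pullback.fst U.ι (baseMap A S))
  let qr := pullback.snd v (pullback.fst U.ι (baseMap A S)) ≫ pullback.snd U.ι (baseMap A S)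
  have H : IsPullback pr qr (v ≫ U.ι) (baseMap A S) :=
    (IsPullback.of_hasPullback v (pullback.fst U.ι (baseMap A S))).paste_vert (IsPullback.of_hasPullback U.ι (baseMap A S))
  let k : pullback v (pullback.fst U.ι (baseMap A S)) ⟶ Spec Γ(T, ⊤) := ε.inv ≫ pullback.fst t (pullback.snd U.ι (baseMap A S)) ≫ T.isoSpec.hom
  haveI : IsOpenImmersion k := inferInstanceAs (IsOpenImmersion (_ ≫ _ ≫ _))
  have hk : k ≫ Spec.map (CommRingCat.ofHom (algebraMap S Γ(T, ⊤))) = qr := by
    simp only [k, qr, Category.assoc, ht, pullback.condition]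
    rw [← reassoc_of% hε, Iso.inv_hom_id_assoc]
  have hkr : Set.range k = {q | ∃ i, algebraMap S Γ(T, ⊤) (algebraMap A S (x i)) ∉ q.asIdeal} := by
    have h1 : Set.range k = T.isoSpec.hom '' (Set.range (pullback.fst t (pullback.snd U.ι (baseMap A S)))) := by
      ext q
      constructor
      · rintro ⟨w, rfl⟩
        exact ⟨_, ⟨ε.inv w, rfl⟩, by simp only [k, Scheme.Hom.comp_apply]⟩
      · rintro ⟨_, ⟨w, rfl⟩, rfl⟩
        refine ⟨ε.hom w, ?_⟩
        simp only [k, Scheme.Hom.comp_apply]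
        rw [← Scheme.Hom.comp_apply ε.hom, Iso.hom_inv_id]
        rfl
    rw [h1, Scheme.Pullback.range_fst, Scheme.Pullback.range_snd, Scheme.Opens.range_ι]
    ext q
    obtain ⟨p, rfl⟩ := (Scheme.Hom.homeomorph T.isoSpec.hom).surjective q
    refine ((Scheme.Hom.homeomorph T.isoSpec.hom).injective.mem_set_image).trans ?_
    have h2 : (baseMap A S) (t p) = (baseMap A S) (Spec.map (CommRingCat.ofHom (algebraMap S Γ(T, ⊤))) (T.isoSpec.hom p)) := by
      conv_lhs => rw [← ht]
      rfl
    show (baseMap A S) (t p) ∈ U ↔ _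
    rw [h2]
    exact hU _
  obtain ⟨B, _, _, _, j, hj, hjg, hjr, ⟨β⟩⟩ := descend_model hU v S hq Γ(T, ⊤) H k hk hkr
  let π := Spec.map (CommRingCat.ofHom (algebraMap A B))
  refine ⟨_, π, (IsFinite.SpecMap_iff _).2 (RingHom.finite_algebraMap.2 inferInstance), fun het => ?_,
    exists_iso_of_model hU v j hjg hjr, ?_⟩
  · haveI : Algebra.Etale S Γ(T, ⊤) := by
      rw [← RingHom.etale_algebraMap]
      refine RingHom.Etale.stableUnderComposition _ _ (RingHom.Etale.of_bijective
        (ConcreteCategory.bijective_of_isIso (Scheme.ΓSpecIso (CommRingCat.of S)).inv)) ?_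
      exact (HasRingHomProperty.iff_of_isAffine (P := @Etale)).1 het
    haveI : Algebra.Etale S (S ⊗[A] B) := Algebra.Etale.of_equiv β.symm
    haveI : Algebra.Etale A B := Algebra.Etale.of_etale_tensorProduct_of_faithfullyFlat S
    exact (HasRingHomProperty.Spec_iff (P := @Etale)).2 (RingHom.etale_algebraMap.2 inferInstance)
  · let e1 := pullbackSymmetry π (baseMap A S)
    let e2 := pullbackSpecIso A S B
    let e3 : Spec (CommRingCat.of (S ⊗[A] B)) ≅ Spec Γ(T, ⊤) :=
      Scheme.Spec.mapIso β.symm.toRingEquiv.toCommRingCatIso.op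
    refine ⟨e1 ≪≫ e2 ≪≫ e3 ≪≫ T.isoSpec.symm, ?_⟩
    have h3 : e3.hom ≫ Spec.map (CommRingCat.ofHom (algebraMap S Γ(T, ⊤))) =
        Spec.map (CommRingCat.ofHom (algebraMap S (S ⊗[A] B))) := by
      show Spec.map _ ≫ Spec.map _ = _
      rw [← Spec.map_comp]
      congr 1
      exact CommRingCat.hom_ext (RingHom.ext fun s => β.symm.commutes s)
    conv_lhs => rw [← ht]
    simp only [Iso.trans_hom, Iso.symm_hom, Category.assoc, Iso.inv_hom_id_assoc]
    rw [h3, pullbackSpecIso_hom_fst, pullbackSymmetry_hom_comp_fst]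

/-- The completion is a formal neighbourhood of the closed point. -/
theorem qBij_completion [IsLocalRing A] (hx : Ideal.span (Set.range x) = IsLocalRing.maximalIdeal A) :
    FormalGlueH7.QBij (AdicCompletion (IsLocalRing.maximalIdeal A) A) (Ideal.span (Set.range x)) := by
  rw [hx]
  refine ⟨(injective_iff_map_eq_zero _).2 fun a ha => ?_, fun s => ?_⟩
  · obtain ⟨a, rfl⟩ := Ideal.Quotient.mk_surjective a
    rw [Ideal.quotientMap_mk, Ideal.Quotient.eq_zero_iff_mem, ← AdicCompletion.maximalIdeal_eq_map] at ha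
    rw [Ideal.Quotient.eq_zero_iff_mem]
    by_contra hn
    exact (IsLocalRing.maximalIdeal.isMaximal _).ne_top (Ideal.eq_top_of_isUnit_mem _ ha
      ((IsLocalRing.notMem_maximalIdeal.1 hn).map _))
  · obtain ⟨s, rfl⟩ := Ideal.Quotient.mk_surjective s
    obtain ⟨a, ha⟩ := Branch14.exists_cpl_approx A s
    refine ⟨Ideal.Quotient.mk _ a, ?_⟩
    rw [Ideal.quotientMap_mk, Ideal.Quotient.eq, ← AdicCompletion.maximalIdeal_eq_map]
    rw [← neg_sub]
    exact neg_mem ha

end Groth.Agent.Pur25
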