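import Groth.Agent.Lib.Pur25.DepthTwo
import Groth.Agent.Lib.VarDim.Alg
import Groth.Agent.Lib.EtQuotH28.Main
import Groth.Agent.Lib.SerreCrit.Basic
import Groth.Agent.Lib.SMT.CMBasic
import Mathlib.RingTheory.DiscreteValuationRing.TFAE
import Mathlib.RingTheory.IntegralClosure.GoingDown
import Mathlib.RingTheory.Flat.TorsionFree

/-!
# Purity of the branch locus for finite extensions of regular local rings
-/

set_option autoImplicit false

universe u

open TensorProduct IsLocalRing

noncomputable section

namespace Groth.Agent.Pur25

variable {A C : Type u} [CommRing A] [IsRegularLocalRing A] [CommRing C] [IsDomain C] [Algebra A C]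
  [Module.Finite A C] (hinj : Function.Injective (algebraMap A C))

include hinj

/-- The local rings of a finite extension have the dimensions of the local rings below. -/
theorem height_eq_of_extension (P : Ideal C) [P.IsPrime] : P.height = (P.comap (algebraMap A C)).height := by
  haveI := RegLoc.isDomain A
  haveI := RegLoc.ufd_of_isRegularLocalRing A
  haveI : IsIntegrallyClosed A := inferInstance
  haveI : FaithfulSMul A C := (faithfulSMul_iff_algebraMap_injective _ _).mpr hinj
  haveI : Algebra.HasGoingDown A C := inferInstance
  rw [show P.height = Order.height (⟨P, inferInstance⟩ : PrimeSpectrum C) from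
      PrimeSpectrum.height_eq_orderHeight ⟨P, inferInstance⟩,
    show (P.comap (algebraMap A C)).height = Order.height (⟨P.comap (algebraMap A C), inferInstance⟩ : PrimeSpectrum A) from
      PrimeSpectrum.height_eq_orderHeight ⟨P.comap (algebraMap A C), inferInstance⟩]
  exact (VarDim.height_comap_eq (R := A) (⟨P, inferInstance⟩ : PrimeSpectrum C)).symm

/-- Unramified in height one is étale. -/
theorem isEtaleAt_height_one (P : Ideal C) [P.IsPrime] (h1 : P.height = 1) [Algebra.IsUnramifiedAt A P] :
    Algebra.IsEtaleAt A P := by
  haveI : Algebra.FinitePresentation A C := Algebra.FinitePresentation.of_finiteType.1 inferInstance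
  let p := P.comap (algebraMap A C)
  haveI := RegLoc.isRegularLocalRing_localization A p
  let Ap := Localization.AtPrime p
  haveI := RegLoc.isDomain Ap
  have hd : ringKrullDim Ap = 1 := by
    rw [IsLocalization.AtPrime.ringKrullDim_eq_height p Ap, ← height_eq_of_extension hinj P, h1]
    rfl
  have hF : ¬ IsField Ap := fun h => by
    rw [ringKrullDim_eq_zero_of_isField h] at hd
    exact zero_ne_one hd
  have hpr : (maximalIdeal Ap).IsPrincipal := by
    obtain ⟨y, hy⟩ := RegLoc.exists_fin_generators Ap
    have hn : (maximalIdeal Ap).spanFinrank = 1 := RegLoc.spanFinrank_eq_of_dim hd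
    refine ⟨y ⟨0, by omega⟩, ?_⟩
    rw [← Ideal.submodule_span_eq] at hy
    refine hy.symm.trans ?_
    congr 1
    ext z
    refine ⟨fun ⟨i, hi⟩ => ?_, fun hz => ⟨_, hz.symm⟩⟩
    rw [← hi]
    exact congrArg y (Fin.ext (by simp only; omega))
  haveI : IsDiscreteValuationRing Ap := ((IsDiscreteValuationRing.TFAE Ap hF).out 0 4).2 hpr
  let CP := Localization.AtPrime P
  letI : Algebra Ap CP := (Localization.localRingHom p P (algebraMap A C) rfl).toAlgebra
  haveI : IsScalarTower A Ap CP := IsScalarTower.of_algebraMap_eq fun a => by
    simp [Ap, CP, RingHom.algebraMap_toAlgebra, Localization.localRingHom_to_map,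
      IsScalarTower.algebraMap_apply A C (Localization.AtPrime P)]
  haveI := RegLoc.isDomain A
  have hinjP : Function.Injective (algebraMap A CP) := by
    rw [IsScalarTower.algebraMap_eq A C CP]
    exact (IsLocalization.injective CP P.primeCompl_le_nonZeroDivisors).comp hinj
  haveI : FaithfulSMul Ap CP := (faithfulSMul_iff_algebraMap_injective _ _).mpr <|
    (injective_iff_map_eq_zero _).2 fun z hz => by
      obtain ⟨⟨a, s⟩, hs⟩ := IsLocalization.surj p.primeCompl z
      have := congrArg (algebraMap Ap CP) hs
      rw [map_mul, hz, zero_mul, ← IsScalarTower.algebraMap_apply] at this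
      have ha : a = 0 := hinjP (this.symm.trans (map_zero _).symm)
      dsimp only at hs
      rw [ha, map_zero] at hs
      exact (IsLocalization.map_units Ap s).mul_left_eq_zero.1 hs
  haveI : IsDomain CP := IsLocalization.isDomain_of_atPrime CP P
  haveI : Module.Flat Ap CP := inferInstance
  haveI : Module.Flat A CP := Module.Flat.trans A Ap CP
  exact EtQuotH28.isEtaleAt_of_flat_of_isUnramifiedAt P

/-- The step in height at least two. -/
theorem isEtaleAt_step (P : Ideal C) [P.IsPrime] [IsIntegrallyClosed (Localization.AtPrime P)] (h2 : 2 ≤ P.height)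
    (h : ∀ (P' : Ideal C) (_ : P'.IsPrime), P' < P → Algebra.IsEtaleAt A P') : Algebra.IsEtaleAt A P := by
  haveI : Algebra.FinitePresentation A C := Algebra.FinitePresentation.of_finiteType.1 inferInstance
  haveI := RegLoc.isDomain A
  let p := P.comap (algebraMap A C)
  haveI := RegLoc.isRegularLocalRing_localization A p
  let Ap := Localization.AtPrime p
  let C' := Ap ⊗[A] C
  letI : Algebra C C' := Algebra.TensorProduct.rightAlgebra
  let M := Algebra.algebraMapSubmonoid C p.primeCompl
  haveI : IsLocalization M C' := inferInstance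
  have hdisj : Disjoint (M : Set C) (P : Set C) := Set.disjoint_left.2 fun z hz hzP => by
    obtain ⟨a, ha, rfl⟩ := hz
    exact ha hzP
  let P' : Ideal C' := P.map (algebraMap C C')
  haveI : P'.IsPrime := IsLocalization.isPrime_of_isPrime_disjoint M C' P inferInstance hdisj
  have hP' : P'.comap (algebraMap C C') = P := IsLocalization.comap_map_of_isPrime_disjoint M C' inferInstance hdisj
  haveI : IsScalarTower A C C' := IsScalarTower.of_algebraMap_eq fun a =>
    (Algebra.TensorProduct.includeRight (R := A) (A := Ap) (B := C)).commutes a |>.symm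
  haveI hloc : IsLocalization.AtPrime (Localization.AtPrime P') P := by
    have := IsLocalization.isLocalization_isLocalization_atPrime_isLocalization M (Localization.AtPrime P') P'
    simpa only [hP'] using this
  let e : Localization.AtPrime P ≃ₐ[C] Localization.AtPrime P' :=
    IsLocalization.algEquiv P.primeCompl (Localization.AtPrime P) (Localization.AtPrime P')
  have hdepth : (2 : ℕ∞) ≤ LocCoh.depth (Localization.AtPrime P') (Localization.AtPrime P') := by
    rw [SMT.depth_eq_of_ringEquiv e.toRingEquiv]
    haveI : IsDomain (Localization.AtPrime P) := IsLocalization.isDomain_of_atPrime _ P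
    haveI : IsNoetherianRing C := IsNoetherianRing.of_finite A C
    refine SerreCrit.two_le_depth_of_normal _ ?_
    rw [IsLocalization.AtPrime.ringKrullDim_eq_height P (Localization.AtPrime P)]
    exact (WithBot.coe_le_coe.2 h2 : ((2 : ℕ∞) : WithBot ℕ∞) ≤ P.height)
  have hdim : (2 : WithBot ℕ∞) ≤ ringKrullDim Ap := by
    rw [IsLocalization.AtPrime.ringKrullDim_eq_height p Ap, ← height_eq_of_extension hinj P]
    exact (WithBot.coe_le_coe.2 h2 : ((2 : ℕ∞) : WithBot ℕ∞) ≤ P.height)
  have hover : P'.comap (algebraMap Ap C') = maximalIdeal Ap := by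
    refine ((maximalIdeal.isMaximal Ap).eq_of_le (Ideal.IsPrime.ne_top inferInstance) ?_).symm
    rw [← Localization.AtPrime.map_eq_maximalIdeal, Ideal.map_le_iff_le_comap, Ideal.comap_comap,
      ← IsScalarTower.algebraMap_eq, IsScalarTower.algebraMap_eq A C C', ← Ideal.comap_comap, hP']
  have het : Algebra.IsEtaleAt Ap P' := by
    refine isEtaleAt_of_punctured hdim P' hover hdepth fun Q hQ hlt => ?_
    refine isEtaleAt_baseChange Q (h _ inferInstance ?_)
    refine lt_of_le_of_ne ((Ideal.comap_mono hlt.le).trans hP'.le) fun he => hlt.ne ?_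
    rw [← IsLocalization.map_comap M C' Q]
    exact congrArg (Ideal.map (algebraMap C C')) he
  haveI := het
  haveI : Algebra.FormallyEtale A Ap := Algebra.FormallyEtale.of_isLocalization p.primeCompl
  haveI : Algebra.FormallyEtale A (Localization.AtPrime P') := Algebra.FormallyEtale.comp A Ap _
  exact Algebra.FormallyEtale.of_equiv (A := Localization.AtPrime P') (B := Localization.AtPrime P) (e.restrictScalars A).symm

/-- **Purity of the branch locus**, algebraic form. -/
theorem isEtaleAt_of_codim_one (q : Ideal C) [q.IsPrime] [IsIntegrallyClosed (Localization.AtPrime q)]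
    (h1 : 1 ≤ q.height)
    (h : ∀ (P : Ideal C) (_ : P.IsPrime), P ≤ q → P.height = 1 → Algebra.IsUnramifiedAt A P) :
    Algebra.IsEtaleAt A q := by
  haveI : Algebra.FinitePresentation A C := Algebra.FinitePresentation.of_finiteType.1 inferInstance
  haveI : IsNoetherianRing C := IsNoetherianRing.of_finite A C
  suffices ∀ (n : ℕ∞) (P : Ideal C) (_ : P.IsPrime), P ≤ q → P.height = n → 1 ≤ P.height → Algebra.IsEtaleAt A P from
    this _ q inferInstance le_rfl rfl h1
  intro n
  induction n using WellFoundedLT.induction with
  | ind n ih =>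
    intro P hP hle hn h1
    rcases eq_or_lt_of_le h1 with h1 | h1
    · haveI := h P hP hle h1.symm
      exact isEtaleAt_height_one hinj P h1.symm
    have h2 : 2 ≤ P.height := by
      have := Order.add_one_le_of_lt h1
      rwa [show (1 : ℕ∞) + 1 = 2 from one_add_one_eq_two] at this
    haveI : IsIntegrallyClosed (Localization.AtPrime P) := by
      haveI : IsDomain (Localization.AtPrime q) := IsLocalization.isDomain_of_atPrime _ q
      letI : Algebra (Localization.AtPrime q) (Localization.AtPrime P) :=
        IsLocalization.localizationAlgebraOfSubmonoidLe _ _ q.primeCompl P.primeCompl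
          (fun z hz hzP => hz (hle hzP))
      haveI := IsLocalization.localization_isScalarTower_of_submonoid_le (Localization.AtPrime q)
        (Localization.AtPrime P) q.primeCompl P.primeCompl (fun z hz hzP => hz (hle hzP))
      haveI := IsLocalization.isLocalization_of_submonoid_le (Localization.AtPrime q)
        (Localization.AtPrime P) q.primeCompl P.primeCompl (fun z hz hzP => hz (hle hzP))
      refine isIntegrallyClosed_of_isLocalization (R := Localization.AtPrime q) (Localization.AtPrime P)
        (M := P.primeCompl.map (algebraMap C (Localization.AtPrime q))) ?_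
      rintro _ ⟨z, hz, rfl⟩
      exact mem_nonZeroDivisors_of_ne_zero ((map_ne_zero_iff _
        (IsLocalization.injective _ q.primeCompl_le_nonZeroDivisors)).2 fun h0 => hz (h0 ▸ P.zero_mem))
    refine isEtaleAt_step hinj P h2 fun P' hP' hlt => ?_
    have hpos : ∀ (Q : Ideal C) (_ : Q.IsPrime), Q < P → Q ≠ ⊥ → Algebra.IsEtaleAt A Q := fun Q hQ hQP hQ0 =>
      ih Q.height (hn ▸ Ideal.height_strict_mono_of_isPrime hQP) Q hQ (hQP.le.trans hle) rfl (by
        refine Order.one_le_iff_pos.2 ?_
        have := Ideal.height_strict_mono_of_isPrime (I := (⊥ : Ideal C)) (bot_lt_iff_ne_bot.2 hQ0)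
        rwa [Ideal.height_bot] at this)
    by_cases hP0 : P' = ⊥
    · obtain ⟨Q, hQ, hQP, hQ0⟩ : ∃ Q : Ideal C, Q.IsPrime ∧ Q < P ∧ Q ≠ ⊥ := by
        by_contra hne
        push Not at hne
        refine absurd h2 (not_le.2 (lt_of_le_of_lt (Ideal.height_le_iff.2 fun Q hQ hQP => ?_ : P.height ≤ 1) (by norm_num)))
        rw [hne Q hQ hQP, Ideal.height_bot]
        norm_num
      haveI := hpos Q hQ hQP hQ0
      have hopen := (Algebra.isOpen_etaleLocus (R := A) (A := C)).stableUnderGeneralization
        ((PrimeSpectrum.le_iff_specializes ⟨P', hP'⟩ ⟨Q, hQ⟩).1 (show P' ≤ Q from hP0 ▸ bot_le))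
        (show Algebra.IsEtaleAt A Q from inferInstance)
      exact hopen
    · exact hpos P' hP' hlt hP0

end Groth.Agent.Pur25
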