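import Groth.Agent.Lib.Pur25.Normal
import Groth.Agent.Lib.Descend.SmoothAtRing
import Groth.Agent.Lib.EtaleQF.Basic
import Groth.Agent.Lib.Hens.Local
import Groth.Agent.Lib.Compl.Dim
import Mathlib.RingTheory.Regular.Flat

/-!
# Purity for finite algebras of depth two, and at a point of a finite algebra
-/

set_option autoImplicit false

universe u

open CategoryTheory CategoryTheory.Limits AlgebraicGeometry TopologicalSpace TensorProduct RingTheory.Sequence
open scoped Pointwise

noncomputable section

namespace Groth.Agent.Pur25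

/-- A regular pair in the radical kills the torsion and the cokernel to the sections. -/
theorem torsFree_kill0_of_pair {A D : Type u} [CommRing A] [CommRing D] [Algebra A D] {ι : Type} [Finite ι]
    (x : ι → A) {a b : D} (ha : a ∈ (Ideal.span (Set.range fun i => algebraMap A D (x i))).radical)
    (hb : b ∈ (Ideal.span (Set.range fun i => algebraMap A D (x i))).radical) (h : IsWeaklyRegular D [a, b]) :
    TorsFree x D ∧ Kill0 x D (1 : A) := by
  rw [isWeaklyRegular_cons_iff, isWeaklyRegular_cons_iff] at h
  obtain ⟨hra, hrb, -⟩ := h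
  have ht := torsFree_of_isSMulRegular (M := D) ha hra
  have hk := kill0_one_of_torsFree (M := D) ha hra (torsFree_of_isSMulRegular hb hrb)
  have hp : ∀ (i : ι) (p : ℕ) (v : D), algebraMap A D (x i) ^ p • v = x i ^ p • v := fun i p v => by
    rw [Algebra.smul_def (x i ^ p) v, map_pow, smul_eq_mul]
  refine ⟨fun v hv => ht v fun i => (hv i).imp fun p h => by rw [hp, h], fun k m hm => ?_⟩
  obtain ⟨c, p, hc⟩ := hk k m fun i j => by simp only [hp]; exact hm i j
  refine ⟨c, p, fun i => ?_⟩
  rw [← hp i p, ← hp i k, one_smul]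
  simpa only [one_smul] using hc i

variable {A : Type u} [CommRing A] [IsNoetherianRing A] [IsLocalRing A]

set_option maxHeartbeats 800000 in
/-- A finite algebra of depth two, étale off the closed point, is étale when purity holds. -/
theorem etale_of_depth_two {D : Type u} [CommRing D] [Algebra A D] [Module.Finite A D]
    (hA : (2 : ℕ∞) ≤ LocCoh.depth A A) (hP : FEt.PurityHolds A) {a b : D}
    (ha : a ∈ ((IsLocalRing.maximalIdeal A).map (algebraMap A D)).radical)
    (hb : b ∈ ((IsLocalRing.maximalIdeal A).map (algebraMap A D)).radical) (hab : IsWeaklyRegular D [a, b])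
    (h : ∀ (q : Ideal D) (_ : q.IsPrime), q.comap (algebraMap A D) ≠ IsLocalRing.maximalIdeal A →
      Algebra.IsEtaleAt A q) : Algebra.Etale A D := by
  obtain ⟨n, x, hx⟩ := exists_generators A
  have hm : Ideal.span (Set.range fun i => algebraMap A D (x i)) =
      (IsLocalRing.maximalIdeal A).map (algebraMap A D) := by
    rw [← hx, Ideal.map_span, ← Set.range_comp]
    rfl
  rw [← hm] at ha hb
  obtain ⟨htD, hkD⟩ := torsFree_kill0_of_pair x ha hb hab
  set π := Spec.map (CommRingCat.ofHom (algebraMap A D))
  let k := pullback.fst π (FEt.puncturedSpec A).ι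
  have hU := mem_puncturedSpec_iff hx
  have hkr : Set.range k = {q | ∃ i, algebraMap A D (x i) ∉ q.asIdeal} := by
    rw [Scheme.Pullback.range_fst, Scheme.Opens.range_ι]
    ext q
    exact hU _
  haveI : Etale (k ≫ π) := etale_of_basicOpens k (fun i => algebraMap A D (x i))
    (fun z => (Set.ext_iff.1 hkr (k z)).1 ⟨z, rfl⟩)
    fun i => etale_away_of_etale_off h (hx ▸ Ideal.subset_span ⟨i, rfl⟩)
  haveI : IsFinite π := (IsFinite.SpecMap_iff _).2 (RingHom.finite_algebraMap.2 inferInstance)
  have het : Etale (pullback.snd π (FEt.puncturedSpec A).ι) := by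
    haveI : Etale (pullback.snd π (FEt.puncturedSpec A).ι ≫ (FEt.puncturedSpec A).ι) := by
      rw [← pullback.condition]; infer_instance
    exact Etale.of_comp _ (FEt.puncturedSpec A).ι
  let V : FEt.Cat (FEt.puncturedSpec A : Scheme.{u}) :=
    MorphismProperty.Over.mk ⊤ (pullback.snd π (FEt.puncturedSpec A).ι) ⟨inferInstance, het⟩
  haveI : (FEt.restrict (FEt.puncturedSpec A).ι).EssSurj := hP
  obtain ⟨hfin, hetale⟩ := Groth.Agent.S0263.result A hA V
    ⟨_, ⟨(FEt.restrict (FEt.puncturedSpec A).ι).objObjPreimageIso V⟩⟩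
  let R := Γ(pullback π (FEt.puncturedSpec A).ι, ⊤)
  letI : Algebra A R := (gΓ (pullback.snd π (FEt.puncturedSpec A).ι ≫ (FEt.puncturedSpec A).ι)).hom.toAlgebra
  haveI : Module.Finite A R := RingHom.finite_algebraMap.1 hfin
  haveI : Algebra.Etale A R := RingHom.etale_algebraMap.1 hetale
  let ρ : D →ₐ[A] R :=
    { ((Scheme.ΓSpecIso (CommRingCat.of D)).inv ≫ k.appTop).hom with
      commutes' := fun c => by
        have h1 : CommRingCat.ofHom (algebraMap A D) ≫ (Scheme.ΓSpecIso (CommRingCat.of D)).inv ≫ k.appTop =
            gΓ (pullback.snd π (FEt.puncturedSpec A).ι ≫ (FEt.puncturedSpec A).ι) := by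
          rw [← Category.assoc, Scheme.ΓSpecIso_inv_naturality, Category.assoc, gΓ, ← pullback.condition,
            Scheme.Hom.comp_appTop]
        exact ConcreteCategory.congr_hom h1 c }
  haveI : QuasiCompact (pullback.snd π (FEt.puncturedSpec A).ι ≫ (FEt.puncturedSpec A).ι) := inferInstance
  haveI : CompactSpace (pullback π (FEt.puncturedSpec A).ι : Scheme.{u}) :=
    QuasiCompact.compactSpace_of_compactSpace (pullback.snd π (FEt.puncturedSpec A).ι ≫ (FEt.puncturedSpec A).ι)
  haveI : IsLocallyNoetherian (pullback π (FEt.puncturedSpec A).ι) :=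
    LocallyOfFiniteType.isLocallyNoetherian (pullback.snd π (FEt.puncturedSpec A).ι ≫ (FEt.puncturedSpec A).ι)
  have hρ := sections_openImmersion k ρ.toRingHom (fun _ => rfl) (fun i => algebraMap A D (x i))
    (fun i q hq => by rw [hkr]; exact ⟨i, hq⟩)
  have hρi : Function.Injective ρ := (injective_iff_map_eq_zero ρ).2 fun c hc =>
    htD c fun i => (hρ.1 c hc i).imp fun p hp => by rw [Algebra.smul_def, map_pow, hp]
  have htR : TorsFree x R := by
    obtain ⟨rs, hreg, hmem, hlen⟩ := exists_regular_seq (A := A) (n := 2) hA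
    obtain ⟨a', t, rfl⟩ : ∃ a' t, rs = a' :: t := by
      match rs, hlen with
      | a' :: t, _ => exact ⟨a', t, rfl⟩
    rw [isWeaklyRegular_cons_iff] at hreg
    exact torsFree_of_isSMulRegular (mem_radical_span hx (hmem a' (by simp)))
      (isSMulRegular_self_of_flat (N := R) hreg.1)
  have hρs : Function.Surjective ρ := by
    intro r
    have hloc : ∀ i, ∃ (p : ℕ) (c : D), ρ c = x i ^ p • r := fun i => by
      obtain ⟨p, c, hc⟩ := hρ.2 r i
      refine ⟨p, c, ?_⟩
      rw [Algebra.smul_def, map_pow, ← ρ.commutes (x i)]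
      exact hc
    choose p c hc using hloc
    let P := Finset.univ.sup p
    have hloc' : ∀ i, ∃ c' : D, ρ c' = x i ^ P • r := fun i => ⟨x i ^ (P - p i) • c i, by
      rw [map_smul, hc, smul_smul, ← pow_add, Nat.sub_add_cancel (Finset.le_sup (f := p) (Finset.mem_univ i))]⟩
    choose c' hc' using hloc'
    obtain ⟨c₀, p', hc₀⟩ := hkD P c' fun i j => hρi (by simp only [map_smul, hc']; rw [smul_comm])
    refine ⟨c₀, (sub_eq_zero.1 (htR (r - ρ c₀) fun i => ⟨p' + P, ?_⟩)).symm⟩
    have h1 := congrArg ρ (hc₀ i)
    simp only [one_smul, map_smul, map_sub, map_zero, hc'] at h1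
    rw [pow_add, mul_smul, smul_sub]
    exact h1
  exact Algebra.Etale.of_equiv (AlgEquiv.ofBijective ρ ⟨hρi, hρs⟩).symm

/-- The maximal ideal of the local ring at a point over the closed point of a finite algebra. -/
theorem maximalIdeal_le_radical_map {A C : Type u} [CommRing A] [IsLocalRing A] [CommRing C] [Algebra A C]
    [Algebra.IsIntegral A C] (q : Ideal C) [q.IsPrime] (hq : q.comap (algebraMap A C) = IsLocalRing.maximalIdeal A) :
    IsLocalRing.maximalIdeal (Localization.AtPrime q) ≤
      ((IsLocalRing.maximalIdeal A).map (algebraMap A (Localization.AtPrime q))).radical := by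
  rw [Ideal.radical_eq_sInf]
  refine le_sInf fun J ⟨hJ, hJp⟩ => ?_
  have hle : J.comap (algebraMap C (Localization.AtPrime q)) ≤ q := by
    exact (Ideal.comap_mono (IsLocalRing.le_maximalIdeal hJp.ne_top)).trans (Localization.AtPrime.comap_maximalIdeal (I := q)).le
  have hm : (J.comap (algebraMap C (Localization.AtPrime q))).comap (algebraMap A C) =
      IsLocalRing.maximalIdeal A := by
    refine ((IsLocalRing.maximalIdeal.isMaximal A).eq_of_le (Ideal.IsPrime.ne_top inferInstance) ?_).symm
    rw [Ideal.comap_comap, ← IsScalarTower.algebraMap_eq, ← Ideal.map_le_iff_le_comap]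
    exact hJ
  have hmax : (J.comap (algebraMap C (Localization.AtPrime q))).IsMaximal :=
    Ideal.isMaximal_of_isIntegral_of_isMaximal_comap _ (by rw [hm]; infer_instance)
  have he := hmax.eq_of_le (Ideal.IsPrime.ne_top inferInstance) hle
  rw [← Localization.AtPrime.map_eq_maximalIdeal, Ideal.map_le_iff_le_comap]
  exact he.ge

/-- Étaleness at a prime passes to a base change. -/
theorem isEtaleAt_baseChange {A C S : Type u} [CommRing A] [CommRing C] [CommRing S] [Algebra A C] [Algebra A S]
    [Algebra.FinitePresentation A C] (P : Ideal (S ⊗[A] C)) [P.IsPrime]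
    (h : Algebra.IsEtaleAt A (P.comap (Algebra.TensorProduct.includeRight (R := A) (A := S) (B := C)).toRingHom)) :
    Algebra.IsEtaleAt S P := by
  obtain ⟨g, hg, _⟩ := Algebra.exists_etale_of_isEtaleAt (R := A)
    (P.comap (Algebra.TensorProduct.includeRight (R := A) (A := S) (B := C)).toRingHom)
  haveI : Algebra.FormallyEtale S (Localization.Away (1 ⊗ₜ g : S ⊗[A] C)) :=
    Algebra.FormallyEtale.of_equiv
      (IsLocalization.Away.tensorProductEquivTMulRight A S g (Localization.Away g))
  exact (Algebra.basicOpen_subset_etaleLocus_iff (R := S) (f := (1 ⊗ₜ g : S ⊗[A] C))).2 inferInstance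
    (show (⟨P, inferInstance⟩ : PrimeSpectrum _) ∈ PrimeSpectrum.basicOpen (1 ⊗ₜ g : S ⊗[A] C) from hg)

/-- Étaleness at primes of a localization. -/
theorem isEtaleAt_localization {S D : Type u} [CommRing S] [CommRing D] [Algebra S D] {Q : Ideal D} [Q.IsPrime]
    (P : Ideal (Localization.AtPrime Q)) [P.IsPrime]
    (h : Algebra.IsEtaleAt S (P.comap (algebraMap D (Localization.AtPrime Q)))) : Algebra.IsEtaleAt S P := by
  haveI := h
  haveI : IsLocalization.AtPrime (Localization.AtPrime P) (P.comap (algebraMap D (Localization.AtPrime Q))) :=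
    IsLocalization.isLocalization_isLocalization_atPrime_isLocalization Q.primeCompl (Localization.AtPrime P) P
  exact Algebra.FormallyEtale.of_equiv ((IsLocalization.algEquiv (P.comap (algebraMap D (Localization.AtPrime Q))).primeCompl
    (Localization.AtPrime (P.comap (algebraMap D (Localization.AtPrime Q)))) (Localization.AtPrime P)).restrictScalars S)

set_option maxHeartbeats 1600000 in
/-- Purity at a closed point of a finite algebra over a regular local ring. -/
theorem isEtaleAt_of_punctured {A C : Type u} [CommRing A] [IsRegularLocalRing A] [CommRing C] [Algebra A C]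
    [Module.Finite A C] (hdim : (2 : WithBot ℕ∞) ≤ ringKrullDim A) (q : Ideal C) [q.IsPrime]
    (hq : q.comap (algebraMap A C) = IsLocalRing.maximalIdeal A)
    (hdepth : (2 : ℕ∞) ≤ LocCoh.depth (Localization.AtPrime q) (Localization.AtPrime q))
    (h : ∀ (P : Ideal C) (_ : P.IsPrime), P < q → Algebra.IsEtaleAt A P) : Algebra.IsEtaleAt A q := by
  haveI : Algebra.FinitePresentation A C := Algebra.FinitePresentation.of_finiteType.1 inferInstance
  haveI : IsNoetherianRing C := IsNoetherianRing.of_finite A C
  let S := AdicCompletion (IsLocalRing.maximalIdeal A) A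
  haveI : IsRegularLocalRing S := (Compl.isRegularLocalRing_adicCompletion_iff A).1 inferInstance
  haveI : HenselianLocalRing S := Branch14.henselianLocalRing_cpl A
  haveI : Module.FaithfullyFlat A S := faithfullyFlat_completion A
  let D := S ⊗[A] C
  letI : Algebra C D := Algebra.TensorProduct.rightAlgebra
  haveI : Module.FaithfullyFlat C D :=
    Module.FaithfullyFlat.of_linearEquiv _ _ (Algebra.TensorProduct.commRight A C S).toLinearEquiv.symm
  obtain ⟨⟨Q, hQp⟩, hQ⟩ := PrimeSpectrum.comap_surjective_of_faithfullyFlat (A := C) (B := D) ⟨q, inferInstance⟩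
  haveI := hQp
  have hQ : Q.comap (algebraMap C D) = q := congrArg PrimeSpectrum.asIdeal hQ
  haveI : Algebra.IsIntegral S D := Algebra.IsIntegral.of_finite S D
  -- primes over `q` lie over the closed point
  have key : ∀ (P : Ideal D), P.IsPrime → (P.comap (algebraMap C D)).comap (algebraMap A C) = IsLocalRing.maximalIdeal A →
      P.comap (algebraMap S D) = IsLocalRing.maximalIdeal S := by
    intro P hP hPm
    refine ((IsLocalRing.maximalIdeal.isMaximal S).eq_of_le (Ideal.IsPrime.ne_top inferInstance) ?_).symm
    rw [AdicCompletion.maximalIdeal_eq_map, Ideal.map_le_iff_le_comap]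
    intro a ha
    replace ha := hPm.ge ha
    show algebraMap S D (algebraMap A S a) ∈ P
    have ha' : algebraMap C D (algebraMap A C a) ∈ P := ha
    have : algebraMap S D (algebraMap A S a) = algebraMap C D (algebraMap A C a) :=
      ((Algebra.TensorProduct.includeLeft (R := A) (S := A) (A := S) (B := C)).commutes a).trans
        ((Algebra.TensorProduct.includeRight (R := A) (A := S) (B := C)).commutes a).symm
    rwa [this]
  have hQS : Q.comap (algebraMap S D) = IsLocalRing.maximalIdeal S := key Q hQp (by rw [hQ, hq])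
  haveI hQm : Q.IsMaximal :=
    Ideal.isMaximal_of_isIntegral_of_isMaximal_comap Q (by rw [hQS]; infer_instance)
  let DQ := Localization.AtPrime Q
  have hsurj : Function.Surjective (algebraMap D DQ) := fun z => by
    classical
    obtain ⟨d, hd⟩ := (Hens.bijective_pi_localization_of_henselian (A := S) (B := D)).2
      (Function.update 0 (⟨Q, hQm⟩ : MaximalSpectrum D) z)
    exact ⟨d, (congrFun hd ⟨Q, hQm⟩).trans (Function.update_self _ _ _)⟩
  haveI : Module.Finite S DQ := Module.Finite.of_surjective (IsScalarTower.toAlgHom S D DQ).toLinearMap hsurj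
  -- a regular pair
  let Cq := Localization.AtPrime q
  letI : Algebra Cq DQ := (Localization.localRingHom q Q (algebraMap C D) hQ.symm).toAlgebra
  haveI : IsScalarTower C Cq DQ := IsScalarTower.of_algebraMap_eq fun c => by
    simp [Cq, DQ, RingHom.algebraMap_toAlgebra, Localization.localRingHom_to_map,
      IsScalarTower.algebraMap_apply C D (Localization.AtPrime Q)]
  haveI : Module.Flat C DQ := Module.Flat.trans C D DQ
  haveI : Module.Flat Cq DQ := (Module.flat_iff_of_isLocalization Cq q.primeCompl DQ).2 inferInstance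
  obtain ⟨rs, hreg, hmem, hlen⟩ := exists_regular_seq (A := Cq) (n := 2) hdepth
  obtain ⟨a, b, rfl⟩ : ∃ a b, rs = [a, b] := by
    match rs, hlen with
    | [a, b], _ => exact ⟨a, b, rfl⟩
  have hregD : IsWeaklyRegular DQ [algebraMap Cq DQ a, algebraMap Cq DQ b] := hreg.of_flat
  have hrad : ∀ c ∈ IsLocalRing.maximalIdeal Cq,
      algebraMap Cq DQ c ∈ ((IsLocalRing.maximalIdeal S).map (algebraMap S DQ)).radical := by
    intro c hc
    have h1 := Ideal.map_radical_le (algebraMap Cq DQ) (Ideal.mem_map_of_mem _ (maximalIdeal_le_radical_map q hq hc))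
    have he : (algebraMap Cq DQ).comp (algebraMap A Cq) = (algebraMap S DQ).comp (algebraMap A S) := by
      ext r
      rw [RingHom.comp_apply, RingHom.comp_apply, IsScalarTower.algebraMap_apply A C Cq,
        ← IsScalarTower.algebraMap_apply C Cq DQ, IsScalarTower.algebraMap_apply C D DQ,
        IsScalarTower.algebraMap_apply S D DQ]
      congr 1
      exact ((Algebra.TensorProduct.includeRight (R := A) (A := S) (B := C)).commutes r).trans
        ((Algebra.TensorProduct.includeLeft (R := A) (S := A) (A := S) (B := C)).commutes r).symm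
    rwa [Ideal.map_map, he, ← Ideal.map_map, ← AdicCompletion.maximalIdeal_eq_map] at h1
  -- étale off the closed point
  haveI : Algebra.Etale S DQ := by
    obtain ⟨d, hd⟩ : ∃ d, (IsLocalRing.maximalIdeal S).spanFinrank = d := ⟨_, rfl⟩
    have hd2 : 2 ≤ d := by
      have := (Compl.ringKrullDim_maximalIdeal_adicCompletion A).symm ▸ hdim
      rw [← IsRegularLocalRing.spanFinrank_maximalIdeal, hd] at this
      exact_mod_cast this
    refine etale_of_depth_two (le_trans (by exact_mod_cast hd2) (le_depth_of_regular hd)) (purity_regular d S hd hd2)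
      (hrad a (hmem a (by simp))) (hrad b (hmem b (by simp))) hregD fun P hP hPS => ?_
    haveI := hP
    let P₀ := P.comap (algebraMap D DQ)
    have hP₀ : P₀ ≤ Q := (Ideal.comap_mono (IsLocalRing.le_maximalIdeal hP.ne_top)).trans
      (Localization.AtPrime.comap_maximalIdeal (I := Q)).le
    have hlt : P₀.comap (algebraMap C D) < q := by
      refine lt_of_le_of_ne (hQ ▸ Ideal.comap_mono hP₀) fun he => hPS ?_
      have := key P₀ inferInstance (by rw [he, hq])
      rw [IsScalarTower.algebraMap_eq S D DQ, ← Ideal.comap_comap]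
      exact this
    haveI : Algebra.IsEtaleAt S P₀ := isEtaleAt_baseChange P₀ (h _ inferInstance hlt)
    exact isEtaleAt_localization P inferInstance
  haveI : Algebra.IsSmoothAt S Q := inferInstanceAs (Algebra.FormallySmooth S DQ)
  have hs : Algebra.IsSmoothAt A q := by
    have := Descend.smoothLocus_of_baseChange (A := A) (B := C) (A' := S) ⟨Q, inferInstance⟩
      (show Algebra.IsSmoothAt S Q from inferInstance)
    have he : (PrimeSpectrum.comap (Algebra.TensorProduct.includeRight (R := A) (A := S) (B := C)).toRingHom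
        ⟨Q, inferInstance⟩) = ⟨q, inferInstance⟩ := PrimeSpectrum.ext hQ
    rw [he] at this
    exact this
  exact EtaleQF.isEtaleAt_of_isSmoothAt_of_quasiFiniteAt q

end Groth.Agent.Pur25
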