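import Groth.Agent.Lib.Pur25.Square
import Groth.Agent.S0239

/-!
# Extending covers from a hypersurface
-/

set_option autoImplicit false

universe u

open CategoryTheory CategoryTheory.Limits AlgebraicGeometry TopologicalSpace

noncomputable section

namespace Groth.Agent.Pur25

variable {A : Type u} [CommRing A] [IsNoetherianRing A] {ι : Type} [Finite ι] {x : ι → A}
  {U : (Spec (CommRingCat.of A)).Opens}

/-- A cover of `U` extends if its trace on `V(f)` extends, when `f` is henselian and kills enough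
cohomology after a faithfully flat formal base change. -/
theorem extends_of_hypersurface (hU : ∀ q : PrimeSpectrum A, q ∈ U ↔ ∃ i, x i ∉ q.asIdeal)
    (S : Type u) [CommRing S] [IsNoetherianRing S] [Algebra A S] [Module.FaithfullyFlat A S]
    (hq : FormalGlueH7.QBij S (Ideal.span (Set.range x))) (f : A)
    [HenselianRing S (Ideal.span {algebraMap A S f})]
    (hfx : algebraMap A S f ∈ (Ideal.span (Set.range fun i => algebraMap A S (x i))).radical) {N : ℕ}
    (h0 : Kill0 (fun i => algebraMap A S (x i)) S (algebraMap A S f ^ N))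
    (h1 : Kill1 (fun i => algebraMap A S (x i)) S (algebraMap A S f ^ N))
    (V : FEt.Cat (U : Scheme.{u})) (Y₀ : FEt.Cat (Spec (CommRingCat.of (A ⧸ Ideal.span {f}))))
    (h : (FEt.restrict (pullback.snd U.ι (Spec.map (CommRingCat.ofHom (Ideal.Quotient.mk (Ideal.span {f})))))).obj Y₀ ≅
      (FEt.restrict (pullback.fst U.ι (Spec.map (CommRingCat.ofHom (Ideal.Quotient.mk (Ideal.span {f})))))).obj V) :
    ∃ Y : FEt.Cat (Spec (CommRingCat.of A)), Nonempty ((FEt.restrict U.ι).obj Y ≅ V) := by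
  set F := algebraMap A S f with hF
  let σ := baseMap A S
  let qA := Spec.map (CommRingCat.ofHom (Ideal.Quotient.mk (Ideal.span {f})))
  let qS := Spec.map (CommRingCat.ofHom (Ideal.Quotient.mk (Ideal.span {F})))
  have hle : Ideal.span {f} ≤ (Ideal.span {F}).comap (algebraMap A S) := by
    rw [Ideal.span_singleton_le_iff_mem, Ideal.mem_comap]
    exact Ideal.subset_span rfl
  let τ := Spec.map (CommRingCat.ofHom (Ideal.quotientMap (Ideal.span {F}) (algebraMap A S) hle))
  have hτ : qS ≫ σ = τ ≫ qA := by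
    simp only [qS, σ, τ, qA, baseMap, ← Spec.map_comp]
    congr 1
  let U'' : (Spec (CommRingCat.of S)).Opens := σ ⁻¹ᵁ U
  have hU'' : ∀ q : PrimeSpectrum S, q ∈ U'' ↔ ∃ i, algebraMap A S (x i) ∉ q.asIdeal := fun q => hU _
  obtain ⟨hfull, hfaith⟩ := fullFaithful_hypersurface hU'' F hfx h0 h1
  let p₁ := pullback.fst U.ι σ
  let p₂ := pullback.snd U.ι σ
  let ψ : pullback U.ι σ ≅ (U'' : Scheme.{u}) := IsOpenImmersion.isoOfRangeEq p₂ U''.ι (by
    rw [Scheme.Pullback.range_snd, Scheme.Opens.range_ι, Scheme.Opens.range_ι]; rfl)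
  have hψ : ψ.hom ≫ U''.ι = p₂ := IsOpenImmersion.isoOfRangeEq_hom_fac _ _ _
  have hψ' : ψ.inv ≫ p₂ = U''.ι := by rw [← hψ, Iso.inv_hom_id_assoc]
  haveI := Groth.Agent.S0239.result S (Ideal.span {F})
  let Y' : FEt.Cat (Spec (CommRingCat.of S)) := (FEt.restrict qS).objPreimage ((FEt.restrict τ).obj Y₀)
  let eY : (FEt.restrict qS).obj Y' ≅ (FEt.restrict τ).obj Y₀ := (FEt.restrict qS).objObjPreimageIso _
  let f'' := pullback.fst U''.ι qS
  let s'' := pullback.snd U''.ι qS
  let m : pullback U''.ι qS ⟶ pullback U.ι qA := pullback.lift (f'' ≫ ψ.inv ≫ p₁) (s'' ≫ τ) (by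
    simp only [Category.assoc, p₁]
    rw [pullback.condition, reassoc_of% hψ', reassoc_of% pullback.condition, ← hτ])
  let V'' := (FEt.restrict (ψ.inv ≫ p₁)).obj V
  let Y'' := (FEt.restrict U''.ι).obj Y'
  let e₀ : (FEt.restrict f'').obj Y'' ≅ (FEt.restrict f'').obj V'' :=
    (restrictSquare U''.ι f'' qS s'' pullback.condition.symm).app Y' ≪≫
      (FEt.restrict s'').mapIso eY ≪≫
      (restrictSquare τ s'' (pullback.snd U.ι qA) m (pullback.lift_snd _ _ _)).app Y₀ ≪≫
      (FEt.restrict m).mapIso h ≪≫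
      (restrictSquare (pullback.fst U.ι qA) m (ψ.inv ≫ p₁) f'' (pullback.lift_fst _ _ _).symm).app V
  haveI : (FEt.restrict f'').Full := hfull
  haveI : (FEt.restrict f'').Faithful := hfaith
  let e₁ : Y'' ≅ V'' := (Functor.FullyFaithful.ofFullyFaithful (FEt.restrict f'')).preimageIso e₀
  let e₂ : (FEt.restrict p₂).obj Y' ≅ (FEt.restrict p₁).obj V :=
    (MorphismProperty.Over.pullbackCongr hψ.symm).app Y' ≪≫ (restrictComp ψ.hom U''.ι).app Y' ≪≫
      (FEt.restrict ψ.hom).mapIso e₁ ≪≫ ((restrictComp ψ.hom (ψ.inv ≫ p₁)).symm.app V) ≪≫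
      (MorphismProperty.Over.pullbackCongr (Iso.hom_inv_id_assoc ψ p₁)).app V
  haveI : IsFinite V.hom := V.prop.1
  haveI : IsFinite Y'.hom := Y'.prop.1
  haveI : Etale Y'.hom := Y'.prop.2
  obtain ⟨T, b, hb, het, ⟨ε, hε⟩, -⟩ := extends_of_base_change hU S hq V.hom Y'.hom
    ((Over.forget _).mapIso ((MorphismProperty.Over.forget _ _ _).mapIso e₂)) (MorphismProperty.Over.w e₂.hom)
  exact ⟨MorphismProperty.Over.mk ⊤ b ⟨hb, het inferInstance⟩, ⟨MorphismProperty.Over.isoMk ε hε⟩⟩

end Groth.Agent.Pur25
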