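import Groth.Agent.Lib.Pur25.Fam
import Mathlib.RingTheory.Henselian
import Mathlib.RingTheory.Spectrum.Prime.Topology
import Mathlib.RingTheory.Filtration
import Mathlib.RingTheory.Localization.Away.Basic
import Mathlib.RingTheory.Localization.Ideal
import Mathlib.RingTheory.Ideal.Quotient.Noetherian

/-!
# Clopen subsets of `D(y₁, …, yₙ)` and of its trace on a hypersurface
-/

set_option autoImplicit false

universe u w

namespace Groth.Agent.Pur25

open Finset PrimeSpectrum

variable {B : Type u} [CommRing B]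

/-- Elements of `B` falling into `I` after multiplication by a power of `Y`. -/
def Sat (I : Ideal B) (Y z : B) : Prop := ∃ p : ℕ, Y ^ p * z ∈ I

/-- Comparison of two approximate idempotents with the same support. -/
theorem sat_sub_of_agree (I : Ideal B) (Y u v : B)
    (hu : Sat I Y (u * u - Y * u)) (hv : Sat I Y (v * v - Y * v))
    (h : ∀ q : PrimeSpectrum B, I ≤ q.asIdeal → Y ∉ q.asIdeal → (u ∈ q.asIdeal ↔ v ∈ q.asIdeal)) :
    Sat I Y (u - v) := by
  let J : Ideal B := (I.map (algebraMap B (Localization.Away Y))).comap (algebraMap B (Localization.Away Y))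
  have hJ : ∀ z, z ∈ J ↔ Sat I Y z := fun z => by
    constructor
    · intro hz
      obtain ⟨⟨a, ⟨_, p, rfl⟩⟩, ha⟩ :=
        (IsLocalization.mem_map_algebraMap_iff (Submonoid.powers Y) (Localization.Away Y)).1 hz
      obtain ⟨⟨_, p', rfl⟩, hp'⟩ := (IsLocalization.eq_iff_exists (Submonoid.powers Y) (Localization.Away Y)).1
        (show algebraMap B _ (z * Y ^ p) = algebraMap B (Localization.Away Y) a by rw [map_mul]; exact ha)
      refine ⟨p' + p, ?_⟩
      rw [pow_add, mul_assoc, mul_comm (Y ^ p) z]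
      exact hp' ▸ I.mul_mem_left _ a.2
    · rintro ⟨p, hp⟩
      show algebraMap B _ z ∈ I.map _
      have h1 := Ideal.mem_map_of_mem (algebraMap B (Localization.Away Y)) hp
      rw [map_mul, map_pow] at h1
      exact (Ideal.unit_mul_mem_iff_mem _ ((IsLocalization.Away.algebraMap_isUnit Y).pow p)).1 h1
  have hsat : ∀ z, Y * z ∈ J → z ∈ J := fun z hz => by
    obtain ⟨p, hp⟩ := (hJ _).1 hz
    exact (hJ _).2 ⟨p + 1, by rwa [pow_succ, mul_assoc]⟩
  have key : ∀ u v : B, u * u - Y * u ∈ J → v * v - Y * v ∈ J →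
      (∀ q : PrimeSpectrum B, I ≤ q.asIdeal → Y ∉ q.asIdeal → (u ∈ q.asIdeal ↔ v ∈ q.asIdeal)) →
      u * (Y - v) ∈ J := fun u v hu hv h => by
    set w := u * (Y - v)
    have hw2 : w * w - Y ^ 2 * w ∈ J := by
      have : w * w - Y ^ 2 * w = (Y - v) ^ 2 * (u * u - Y * u) + Y * u * (v * v - Y * v) := by ring
      rw [this]
      exact add_mem (J.mul_mem_left _ hu) (J.mul_mem_left _ hv)
    have hrad : Y * w ∈ J.radical := by
      rw [Ideal.radical_eq_sInf, Ideal.mem_sInf]
      rintro q ⟨hq, hqp⟩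
      by_cases hY : Y ∈ q
      · exact q.mul_mem_right _ hY
      refine q.mul_mem_left _ ?_
      have hIq : I ≤ q := (Ideal.le_comap_map).trans hq
      have huv := h ⟨q, hqp⟩ hIq hY
      by_cases hvq : v ∈ q
      · exact q.mul_mem_right _ (huv.2 hvq)
      · obtain ⟨p, hp⟩ := (hJ _).1 hv
        have h1 := (hqp.mem_or_mem (hIq hp)).resolve_left fun h => hY (hqp.mem_of_pow_mem p h)
        rw [show v * v - Y * v = v * (v - Y) by ring] at h1
        refine q.mul_mem_left _ ?_
        rw [show Y - v = -(v - Y) by ring]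
        exact q.neg_mem ((hqp.mem_or_mem h1).resolve_left hvq)
    obtain ⟨m, hm⟩ := hrad
    have hm' : w ^ m ∈ J := by
      have : ∀ m, Y ^ m * w ^ m ∈ J → w ^ m ∈ J := fun m => by
        suffices ∀ j z, Y ^ j * z ∈ J → z ∈ J from this m _
        intro j
        induction j with
        | zero => simp
        | succ j ih => intro z hz; exact hsat _ (ih _ (by rwa [← mul_assoc, ← pow_succ]))
      exact this m (by rwa [← mul_pow])
    have : ∀ j, Y ^ (2 * j) * w - w ^ (j + 1) ∈ J := by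
      intro j
      induction j with
      | zero => simp
      | succ j ih =>
        have : Y ^ (2 * (j + 1)) * w - w ^ (j + 1 + 1) =
            Y ^ 2 * (Y ^ (2 * j) * w - w ^ (j + 1)) - w ^ j * (w * w - Y ^ 2 * w) := by ring
        rw [this]
        exact sub_mem (J.mul_mem_left _ ih) (J.mul_mem_left _ hw2)
    have h2 : Y ^ (2 * m) * w ∈ J := by
      have h3 : w ^ (m + 1) ∈ J := by rw [pow_succ]; exact J.mul_mem_right _ hm'
      simpa using add_mem (this m) h3
    have : ∀ j z, Y ^ j * z ∈ J → z ∈ J := by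
      intro j
      induction j with
      | zero => simp
      | succ j ih => intro z hz; exact hsat _ (ih _ (by rwa [← mul_assoc, ← pow_succ]))
    exact this _ _ h2
  have h1 := key u v ((hJ _).2 hu) ((hJ _).2 hv) h
  have h2 := key v u ((hJ _).2 hv) ((hJ _).2 hu) fun q hq hY => (h q hq hY).symm
  refine (hJ _).1 (hsat _ ?_)
  rw [show Y * (u - v) = u * (Y - v) - v * (Y - u) by ring]
  exact sub_mem h1 h2

/-- A relatively clopen subset of `D(y) ∩ V(I)` is cut out by an approximate idempotent. -/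
theorem exists_approx_idem (I : Ideal B) (y : B) {O O' : Set (PrimeSpectrum B)} (hO : IsOpen O) (hO' : IsOpen O')
    (h : ∀ q : PrimeSpectrum B, I ≤ q.asIdeal → y ∉ q.asIdeal → (q ∈ O' ↔ q ∉ O)) :
    ∃ (k : ℕ) (b : B), Sat I y (b * b - y ^ k * b) ∧
      ∀ q : PrimeSpectrum B, I ≤ q.asIdeal → y ∉ q.asIdeal → (q ∈ O ↔ b ∉ q.asIdeal) := by
  let Q := Localization.Away (Ideal.Quotient.mk I y)
  let φ : B →+* Q := (algebraMap (B ⧸ I) Q).comp (Ideal.Quotient.mk I)
  have hlift : ∀ q : PrimeSpectrum B, I ≤ q.asIdeal → y ∉ q.asIdeal → ∃ r : PrimeSpectrum Q, comap φ r = q := by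
    intro q hq hy
    obtain ⟨q', rfl⟩ : q ∈ Set.range (comap (Ideal.Quotient.mk I)) := by
      rw [range_comap_of_surjective _ _ Ideal.Quotient.mk_surjective, Ideal.mk_ker]
      exact hq
    obtain ⟨r, rfl⟩ : q' ∈ Set.range (comap (algebraMap (B ⧸ I) Q)) := by
      rw [localization_away_comap_range Q (Ideal.Quotient.mk I y)]
      exact hy
    exact ⟨r, rfl⟩
  have hmem : ∀ r : PrimeSpectrum Q, I ≤ (comap φ r).asIdeal ∧ y ∉ (comap φ r).asIdeal := fun r => by
    refine ⟨fun z hz => ?_, fun hy => ?_⟩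
    · show φ z ∈ r.asIdeal
      simp [φ, Ideal.Quotient.eq_zero_iff_mem.2 hz]
    · exact r.isPrime.ne_top (Ideal.eq_top_of_isUnit_mem _ hy
        (IsLocalization.Away.algebraMap_isUnit (Ideal.Quotient.mk I y)))
  have hc : IsClopen (comap φ ⁻¹' O) := by
    refine ⟨⟨?_⟩, hO.preimage (continuous_comap φ)⟩
    have : (comap φ ⁻¹' O)ᶜ = comap φ ⁻¹' O' := by
      ext r
      exact (h _ (hmem r).1 (hmem r).2).symm
    rw [this]
    exact hO'.preimage (continuous_comap φ)
  obtain ⟨e, he, hOe⟩ := exists_idempotent_basicOpen_eq_of_isClopen hc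
  obtain ⟨k, b', hb⟩ := IsLocalization.Away.surj (Ideal.Quotient.mk I y) e
  obtain ⟨b, rfl⟩ := Ideal.Quotient.mk_surjective b'
  refine ⟨k, b, ?_, fun q hq hy => ?_⟩
  · have h0 : φ (b * b - y ^ k * b) = 0 := by
      have hb' : φ b = e * φ y ^ k := hb.symm
      rw [map_sub, map_mul, map_mul, map_pow, hb',
        show e * φ y ^ k * (e * φ y ^ k) = φ y ^ k * (e * e * φ y ^ k) by ring, he.eq, sub_self]
    obtain ⟨⟨_, p, rfl⟩, hp⟩ := (IsLocalization.map_eq_zero_iff
      (Submonoid.powers (Ideal.Quotient.mk I y)) Q _).1 h0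
    exact ⟨p, Ideal.Quotient.eq_zero_iff_mem.1 (by rw [map_mul, map_pow]; exact hp)⟩
  · obtain ⟨r, rfl⟩ := hlift q hq hy
    show r ∈ comap φ ⁻¹' O ↔ φ b ∉ r.asIdeal
    rw [hOe, show φ b = e * φ y ^ k from hb.symm]
    exact ⟨fun h1 h2 => (r.isPrime.mem_or_mem h2).elim h1 fun h3 => hy (r.isPrime.mem_of_pow_mem k h3),
      fun h1 h2 => h1 (r.asIdeal.mul_mem_right _ h2)⟩

variable {A : Type u} [CommRing A] [Algebra A B] {ι : Type w} {x : ι → A}

local notation "am" => algebraMap A B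

/-- Compatible approximate idempotents for a relatively clopen subset. -/
theorem exists_fam_idem [Finite ι] (x : ι → A) (I : Ideal B) {O O' : Set (PrimeSpectrum B)} (hO : IsOpen O)
    (hO' : IsOpen O')
    (h : ∀ q : PrimeSpectrum B, I ≤ q.asIdeal → (∃ i, am (x i) ∉ q.asIdeal) → (q ∈ O' ↔ q ∉ O)) :
    ∃ (k : ℕ) (m : ι → B), (∀ i j, am (x j) ^ k * m i - am (x i) ^ k * m j ∈ I) ∧
      (∀ i, m i * m i - am (x i) ^ k * m i ∈ I) ∧
      ∀ (i : ι) (q : PrimeSpectrum B), I ≤ q.asIdeal → am (x i) ∉ q.asIdeal → (q ∈ O ↔ m i ∉ q.asIdeal) := by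
  cases nonempty_fintype ι
  choose k b hb hbO using fun i => exists_approx_idem I (am (x i)) hO hO' fun q hq hy => h q hq ⟨i, hy⟩
  let K := univ.sup k
  let b' : ι → B := fun i => am (x i) ^ (K - k i) * b i
  have hb' : ∀ i, Sat I (am (x i)) (b' i * b' i - am (x i) ^ K * b' i) := fun i => by
    obtain ⟨p, hp⟩ := hb i
    refine ⟨p, ?_⟩
    obtain ⟨d, hd⟩ := Nat.exists_eq_add_of_le (le_sup (f := k) (mem_univ i) : k i ≤ K)
    have hd' : K = k i + d := hd
    simp only [b']
    rw [show K - k i = d by omega, hd']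
    convert I.mul_mem_left (am (x i) ^ (2 * d)) hp using 1
    ring
  have hbO' : ∀ (i : ι) (q : PrimeSpectrum B), I ≤ q.asIdeal → am (x i) ∉ q.asIdeal →
      (q ∈ O ↔ b' i ∉ q.asIdeal) := fun i q hq hy => by
    rw [hbO i q hq hy]
    exact ⟨fun h1 h2 => (q.isPrime.mem_or_mem h2).elim (fun h3 => hy (q.isPrime.mem_of_pow_mem _ h3)) h1,
      fun h1 h2 => h1 (q.asIdeal.mul_mem_left _ h2)⟩
  have hcomp : ∀ i j, ∃ p, (am (x i) * am (x j)) ^ p * (am (x j) ^ K * b' i - am (x i) ^ K * b' j) ∈ I := by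
    intro i j
    set Y := (am (x i) * am (x j)) ^ K with hY
    suffices Sat I (am (x i) * am (x j)) (am (x j) ^ K * b' i - am (x i) ^ K * b' j) from this
    obtain ⟨pi, hpi⟩ := hb' i
    obtain ⟨pj, hpj⟩ := hb' j
    have hu : Sat I (Y * (am (x i) * am (x j))) ((am (x i) * am (x j)) * (am (x j) ^ K * b' i) *
        ((am (x i) * am (x j)) * (am (x j) ^ K * b' i)) -
        Y * (am (x i) * am (x j)) * ((am (x i) * am (x j)) * (am (x j) ^ K * b' i))) := by
      refine ⟨pi, ?_⟩
      convert I.mul_mem_left ((Y * am (x j)) ^ pi * (am (x i) * am (x j)) ^ 2 * am (x j) ^ (2 * K)) hpi using 1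
      rw [hY]; ring
    have hv : Sat I (Y * (am (x i) * am (x j))) ((am (x i) * am (x j)) * (am (x i) ^ K * b' j) *
        ((am (x i) * am (x j)) * (am (x i) ^ K * b' j)) -
        Y * (am (x i) * am (x j)) * ((am (x i) * am (x j)) * (am (x i) ^ K * b' j))) := by
      refine ⟨pj, ?_⟩
      convert I.mul_mem_left ((Y * am (x i)) ^ pj * (am (x i) * am (x j)) ^ 2 * am (x i) ^ (2 * K)) hpj using 1
      rw [hY]; ring
    obtain ⟨p, hp⟩ := sat_sub_of_agree I _ _ _ hu hv fun q hq hq' => by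
      have hxi : am (x i) ∉ q.asIdeal := fun h1 => hq' (q.asIdeal.mul_mem_left _ (q.asIdeal.mul_mem_right _ h1))
      have hxj : am (x j) ∉ q.asIdeal := fun h1 => hq' (q.asIdeal.mul_mem_left _ (q.asIdeal.mul_mem_left _ h1))
      have h1 := (hbO' i q hq hxi).symm.trans (hbO' j q hq hxj)
      rw [not_iff_not] at h1
      constructor
      · intro h2
        refine q.asIdeal.mul_mem_left _ (q.asIdeal.mul_mem_left _ (h1.1 ?_))
        exact (q.isPrime.mem_or_mem ((q.isPrime.mem_or_mem h2).resolve_left fun h3 =>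
          (q.isPrime.mem_or_mem h3).elim hxi hxj)).resolve_left fun h3 => hxj (q.isPrime.mem_of_pow_mem _ h3)
      · intro h2
        refine q.asIdeal.mul_mem_left _ (q.asIdeal.mul_mem_left _ (h1.2 ?_))
        exact (q.isPrime.mem_or_mem ((q.isPrime.mem_or_mem h2).resolve_left fun h3 =>
          (q.isPrime.mem_or_mem h3).elim hxi hxj)).resolve_left fun h3 => hxi (q.isPrime.mem_of_pow_mem _ h3)
    refine ⟨(K + 1) * p + 1, ?_⟩
    convert hp using 1
    rw [hY]; ring
  obtain ⟨P, hP⟩ := exists_shift_isFam (x := x) (k := K) (M := B ⧸ I) (m := fun i => Ideal.Quotient.mk I (b' i)) fun i j => by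
    obtain ⟨p, hp⟩ := hcomp i j
    refine ⟨p, ?_⟩
    simp only [Algebra.smul_def, IsScalarTower.algebraMap_apply A B (B ⧸ I), Ideal.Quotient.algebraMap_eq,
      map_pow, map_mul, ← map_sub]
    simp only [← map_pow, ← map_mul]
    exact Ideal.Quotient.eq_zero_iff_mem.2 (by simpa using hp)
  choose p hp using hb'
  let P' := univ.sup p
  refine ⟨K + P + P', fun i => am (x i) ^ (P + P') * b' i, fun i j => ?_, fun i => ?_, fun i q hq hy => ?_⟩
  · have := hP i j
    simp only [Algebra.smul_def, IsScalarTower.algebraMap_apply A B (B ⧸ I), Ideal.Quotient.algebraMap_eq,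
      map_pow] at this
    simp only [← map_pow, ← map_mul, Ideal.Quotient.mk_eq_mk_iff_sub_mem] at this
    convert I.mul_mem_left ((am (x i) * am (x j)) ^ P') this using 1
    simp only [map_pow]; ring
  · obtain ⟨d, hd⟩ := Nat.exists_eq_add_of_le (le_sup (f := p) (mem_univ i) : p i ≤ P')
    rw [show P' = p i + d from hd]
    convert I.mul_mem_left (am (x i) ^ (2 * P + p i + d + d)) (hp i) using 1
    ring
  · rw [hbO' i q hq hy]
    exact ⟨fun h1 h2 => (q.isPrime.mem_or_mem h2).elim (fun h3 => hy (q.isPrime.mem_of_pow_mem _ h3)) h1,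
      fun h1 h2 => h1 (q.asIdeal.mul_mem_left _ h2)⟩

variable [IsNoetherianRing B] [Finite ι]

theorem exists_torsion_bound (F : B) : ∃ c, ∀ (n : ℕ) (z : B), F ^ n * z = 0 → F ^ c * z = 0 := by
  let T : ℕ →o Ideal B := ⟨fun n => LinearMap.ker (LinearMap.mulLeft B (F ^ n)), fun a b hab z hz => by
    obtain ⟨d, rfl⟩ := Nat.exists_eq_add_of_le hab
    simp only [LinearMap.mem_ker, LinearMap.mulLeft_apply] at hz ⊢
    rw [pow_add, mul_right_comm, hz, zero_mul]⟩
  obtain ⟨c, hc⟩ := monotone_stabilizes_iff_noetherian.2 (inferInstance : IsNoetherian B B) T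
  refine ⟨c, fun n z hz => ?_⟩
  have : z ∈ T n := hz
  have h2 : z ∈ T (max c n) := T.monotone (le_max_right c n) this
  rwa [← hc (max c n) (le_max_left c n)] at h2

/-- Relatively clopen subsets of `D(x) ∩ V(f)` lift to `D(x)`. -/
theorem exists_lift_clopen (f : A) [HenselianRing B (Ideal.span {am f})] {N : ℕ}
    (h0 : Kill0 x B (f ^ N)) (h1 : Kill1 x B (f ^ N))
    {O O' : Set (PrimeSpectrum B)} (hO : IsOpen O) (hO' : IsOpen O')
    (h : ∀ q : PrimeSpectrum B, am f ∈ q.asIdeal → (∃ i, am (x i) ∉ q.asIdeal) → (q ∈ O' ↔ q ∉ O)) :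
    ∃ D D' : Set (PrimeSpectrum B), IsOpen D ∧ IsOpen D' ∧
      (∀ q : PrimeSpectrum B, (∃ i, am (x i) ∉ q.asIdeal) → (q ∈ D' ↔ q ∉ D)) ∧
      ∀ q : PrimeSpectrum B, am f ∈ q.asIdeal → (∃ i, am (x i) ∉ q.asIdeal) → (q ∈ D ↔ q ∈ O) := by
  cases nonempty_fintype ι
  set F := am f with hF
  obtain ⟨c, hc⟩ := exists_torsion_bound F
  obtain ⟨d, hd0⟩ : ∃ d, d = N + c + 1 := ⟨_, rfl⟩
  have hIF : ∀ q : PrimeSpectrum B, F ∈ q.asIdeal ↔ Ideal.span {F ^ (d + N + c)} ≤ q.asIdeal := fun q => by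
    rw [Ideal.span_singleton_le_iff_mem]
    exact ⟨fun hq => q.asIdeal.pow_mem_of_mem hq _ (by omega), fun hq => q.isPrime.mem_of_pow_mem _ hq⟩
  obtain ⟨k, m, hm, hmm, hmO⟩ := exists_fam_idem x (Ideal.span {F ^ (d + N + c)}) hO hO'
    fun q hq hy => h q ((hIF q).2 hq) hy
  have hu : ∀ i j, ∃ u, am (x j) ^ k * m i - am (x i) ^ k * m j = F ^ (d + N + c) * u := fun i j => by
    obtain ⟨u, hu⟩ := Ideal.mem_span_singleton'.1 (hm i j)
    exact ⟨u, by rw [← hu, mul_comm]⟩
  choose u hu using hu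
  have hcoc : IsCoc x k fun i j => F ^ c * u i j := fun i j l => by
    simp only [Algebra.smul_def, map_pow]
    have h2 := hc (d + N + c) (am (x l) ^ k * u i j - am (x j) ^ k * u i l + am (x i) ^ k * u j l) (by
      linear_combination -(am (x l) ^ k) * hu i j + am (x j) ^ k * hu i l - am (x i) ^ k * hu j l)
    linear_combination h2
  obtain ⟨p, t, ht⟩ := h1 k _ hcoc
  let m' : ι → B := fun i => am (x i) ^ p * m i - F ^ d * t i
  have hm' : IsFam x (k + p) m' := fun i j => by
    have := ht i j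
    simp only [Algebra.smul_def, map_pow, map_mul, ← hF] at this ⊢
    simp only [m']
    linear_combination (am (x i) * am (x j)) ^ p * hu i j + F ^ d * this
  have hw : ∀ i, ∃ v, m' i * m' i - am (x i) ^ (k + p) * m' i = F ^ d * v := fun i => by
    obtain ⟨s, hs⟩ := Ideal.mem_span_singleton'.1 (hmm i)
    refine ⟨am (x i) ^ (2 * p) * s * F ^ (N + c) - 2 * am (x i) ^ p * m i * t i + F ^ d * t i * t i
      + am (x i) ^ (k + p) * t i, ?_⟩
    simp only [m']
    linear_combination -(am (x i) ^ (2 * p)) * hs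
  choose v hv using hw
  have hvfam : IsFam x (2 * (k + p)) fun i => F ^ c * v i := fun i j => by
    simp only [Algebra.smul_def, map_pow]
    have e := hm' i j
    simp only [Algebra.smul_def, map_pow] at e
    have h2 := hc d (am (x j) ^ (2 * (k + p)) * v i - am (x i) ^ (2 * (k + p)) * v j) (by
      linear_combination -(am (x j) ^ (2 * (k + p))) * hv i + am (x i) ^ (2 * (k + p)) * hv j +
        (am (x j) ^ (k + p) * m' i + am (x i) ^ (k + p) * m' j - (am (x i) * am (x j)) ^ (k + p)) * e)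
    linear_combination h2
  obtain ⟨b, p', hb⟩ := h0 _ _ hvfam
  set w0 := F * b with hw0
  have hwi : ∀ i, am (x i) ^ p' * (m' i * m' i - am (x i) ^ (k + p) * m' i - am (x i) ^ (2 * (k + p)) * w0) = 0 :=
    fun i => by
      have := hb i
      simp only [Algebra.smul_def, map_pow, ← hF] at this
      have hd : F ^ d = F * (F ^ N * F ^ c) := by rw [hd0]; ring
      linear_combination am (x i) ^ p' * hv i + am (x i) ^ p' * v i * hd + F * this
  have hw0F : w0 ∈ Ideal.span {F} := Ideal.mem_span_singleton'.2 ⟨b, by rw [hw0, mul_comm]⟩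
  obtain ⟨U, hU⟩ : IsUnit (1 + 4 * w0) := by
    have h4 : (4 : B) * w0 ∈ Ideal.jacobson (⊥ : Ideal B) :=
      Ideal.mul_mem_left _ _ (HenselianRing.jac (R := B) (I := Ideal.span {F}) hw0F)
    simpa [add_comm] using Ideal.mem_jacobson_bot.1 h4 1
  set a := -(↑U⁻¹ * w0) with ha
  have haU : (1 + 4 * w0) * a = -w0 := by rw [ha, ← hU, mul_neg, ← mul_assoc, Units.mul_inv, one_mul]
  obtain ⟨z, hz, hzF⟩ : ∃ z : B, z * z - z - a = 0 ∧ z ∈ Ideal.span {F} := by
    have hmonic : (Polynomial.X ^ 2 - (Polynomial.X + Polynomial.C a) : Polynomial B).Monic := by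
      refine Polynomial.monic_X_pow_sub ?_
      refine lt_of_le_of_lt (b := (1 : WithBot ℕ)) ?_ (by decide)
      exact (Polynomial.degree_add_le _ _).trans
        (max_le Polynomial.degree_X_le (Polynomial.degree_C_le.trans (by decide)))
    obtain ⟨z, hz, hzI⟩ := HenselianRing.is_henselian (R := B) (I := Ideal.span {F}) _ hmonic 0
      (by simpa [ha] using Ideal.mul_mem_left (Ideal.span {F}) (↑U⁻¹ : B) hw0F) (by simp)
    exact ⟨z, by rw [← hz.eq_zero]; simp; ring, by simpa using hzI⟩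
  let e : ι → B := fun i => m' i + (am (x i) ^ (k + p) - 2 * m' i) * z
  have hefam : ∀ i j, am (x j) ^ (k + p) * e i = am (x i) ^ (k + p) * e j := fun i j => by
    have := hm' i j
    simp only [Algebra.smul_def, map_pow] at this
    simp only [e]
    linear_combination (1 - 2 * z) * this
  have heid : ∀ i, am (x i) ^ p' * (e i * (e i - am (x i) ^ (k + p))) = 0 := fun i => by
    simp only [e]
    linear_combination (4 * (z * z - z) + 1) * hwi i + am (x i) ^ (p' + 2 * (k + p)) * (1 + 4 * w0) * hz +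
      am (x i) ^ (p' + 2 * (k + p)) * haU
  have hswitch : ∀ (q : PrimeSpectrum B) i j, am (x i) ∉ q.asIdeal → am (x j) ∉ q.asIdeal →
      e i ∈ q.asIdeal → e j ∈ q.asIdeal := fun q i j hi hj he =>
    (q.isPrime.mem_or_mem (hefam i j ▸ q.asIdeal.mul_mem_left _ he :
      am (x i) ^ (k + p) * e j ∈ q.asIdeal)).resolve_left fun h2 => hi (q.isPrime.mem_of_pow_mem _ h2)
  refine ⟨⋃ i, (basicOpen (am (x i) * e i) : Set (PrimeSpectrum B)),
    ⋃ i, (basicOpen (am (x i) * (e i - am (x i) ^ (k + p))) : Set (PrimeSpectrum B)),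
    isOpen_iUnion fun i => (basicOpen _).2, isOpen_iUnion fun i => (basicOpen _).2, ?_, ?_⟩
  · rintro q ⟨i, hi⟩
    simp only [Set.mem_iUnion, SetLike.mem_coe, mem_basicOpen, not_exists, not_not]
    constructor
    · rintro ⟨j, hj⟩ l
      by_cases hl : am (x l) ∈ q.asIdeal
      · exact q.asIdeal.mul_mem_right _ hl
      have hj1 : am (x j) ∉ q.asIdeal := fun h2 => hj (q.asIdeal.mul_mem_right _ h2)
      refine q.asIdeal.mul_mem_left _ (hswitch q j l hj1 hl ?_)
      have h2 : am (x j) ^ p' * (e j * (e j - am (x j) ^ (k + p))) ∈ q.asIdeal := heid j ▸ q.asIdeal.zero_mem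
      have h3 := (q.isPrime.mem_or_mem h2).resolve_left fun h4 => hj1 (q.isPrime.mem_of_pow_mem _ h4)
      exact (q.isPrime.mem_or_mem h3).resolve_right fun h4 => hj (q.asIdeal.mul_mem_left _ h4)
    · intro hl
      refine ⟨i, fun h2 => ?_⟩
      have h3 := (q.isPrime.mem_or_mem (hl i)).resolve_left hi
      have h4 := (q.isPrime.mem_or_mem h2).resolve_left hi
      exact hi (q.isPrime.mem_of_pow_mem _ (show am (x i) ^ (k + p) ∈ q.asIdeal by
        simpa using q.asIdeal.sub_mem h3 h4))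
  · rintro q hqF ⟨i, hi⟩
    have hzq : z ∈ q.asIdeal := (Ideal.span_singleton_le_iff_mem _).2 hqF hzF
    have hiff : ∀ j, am (x j) ∉ q.asIdeal → (e j ∈ q.asIdeal ↔ q ∉ O) := fun j hj => by
      rw [hmO j q ((hIF q).1 hqF) hj, not_not]
      have he : e j - am (x j) ^ p * m j ∈ q.asIdeal := by
        simp only [e, m']
        have ht0 : F ^ d * t j ∈ q.asIdeal := q.asIdeal.mul_mem_right _ (q.asIdeal.pow_mem_of_mem hqF d (by omega))
        convert q.asIdeal.sub_mem (q.asIdeal.mul_mem_left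
          (am (x j) ^ (k + p) - 2 * (am (x j) ^ p * m j - F ^ d * t j)) hzq) ht0 using 1
        ring
      exact ⟨fun h2 => (q.isPrime.mem_or_mem (by simpa using q.asIdeal.sub_mem h2 he :
          am (x j) ^ p * m j ∈ q.asIdeal)).resolve_left fun h3 => hj (q.isPrime.mem_of_pow_mem _ h3),
        fun h2 => by simpa using q.asIdeal.add_mem (q.asIdeal.mul_mem_left (am (x j) ^ p) h2) he⟩
    simp only [Set.mem_iUnion, SetLike.mem_coe, mem_basicOpen]
    constructor
    · rintro ⟨j, hj⟩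
      have hj1 : am (x j) ∉ q.asIdeal := fun h2 => hj (q.asIdeal.mul_mem_right _ h2)
      by_contra hqO
      exact hj (q.asIdeal.mul_mem_left _ ((hiff j hj1).2 hqO))
    · exact fun hqO => ⟨i, fun h2 => (hiff i hi).1 ((q.isPrime.mem_or_mem h2).resolve_left hi) hqO⟩

/-- A clopen subset of `D(x)` missing `V(f)` is empty. -/
theorem clopen_eq_empty (f : A) (hf : Ideal.span {am f} ≤ Ideal.jacobson (⊥ : Ideal B)) {N : ℕ}
    (h0 : Kill0 x B (f ^ N)) {O O' : Set (PrimeSpectrum B)} (hO : IsOpen O) (hO' : IsOpen O')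
    (h : ∀ q : PrimeSpectrum B, (∃ i, am (x i) ∉ q.asIdeal) → (q ∈ O' ↔ q ∉ O))
    (hne : ∀ q : PrimeSpectrum B, am f ∈ q.asIdeal → (∃ i, am (x i) ∉ q.asIdeal) → q ∉ O) :
    ∀ q : PrimeSpectrum B, (∃ i, am (x i) ∉ q.asIdeal) → q ∉ O := by
  cases nonempty_fintype ι
  set F := am f with hF
  obtain ⟨c, hc⟩ := exists_torsion_bound F
  obtain ⟨k, e, he, hee, heO⟩ := exists_fam_idem x (⊥ : Ideal B) hO hO' fun q _ hy => h q hy
  simp only [Ideal.mem_bot, sub_eq_zero] at he hee
  have hfam : IsFam x k e := fun i j => by simpa [Algebra.smul_def] using he i j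
  have hdiv : ∀ (n : ℕ) (i : ι), ∃ (p : ℕ) (v : B), am (x i) ^ p * e i = F ^ n * v := by
    intro n i
    have hu : Sat (Ideal.span {F ^ n}) (am (x i) ^ (k + 1)) (am (x i) * e i * (am (x i) * e i) -
        am (x i) ^ (k + 1) * (am (x i) * e i)) :=
      ⟨0, by rw [show am (x i) ^ (k + 1) * (am (x i) * e i) = am (x i) * am (x i) * (am (x i) ^ k * e i) by ring,
        ← hee i]; ring_nf; exact zero_mem _⟩
    obtain ⟨p, hp⟩ := sat_sub_of_agree (Ideal.span {F ^ n}) (am (x i) ^ (k + 1)) (am (x i) * e i) 0 hu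
      ⟨0, by simp⟩ (fun q hq hy => by
        refine iff_of_true ?_ q.asIdeal.zero_mem
        rcases Nat.eq_zero_or_pos n with rfl | hn
        · exact (q.isPrime.ne_top (by simpa [Ideal.span_singleton_le_iff_mem, Ideal.eq_top_iff_one] using hq)).elim
        refine q.asIdeal.mul_mem_left _ ?_
        have hy' : am (x i) ∉ q.asIdeal := fun h1 => hy (q.asIdeal.pow_mem_of_mem h1 _ (Nat.succ_pos k))
        by_contra hei
        exact hne q (q.isPrime.mem_of_pow_mem n ((Ideal.span_singleton_le_iff_mem _).1 hq)) ⟨i, hy'⟩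
          ((heO i q bot_le hy').2 hei))
    obtain ⟨v, hv⟩ := Ideal.mem_span_singleton'.1 hp
    exact ⟨(k + 1) * p + 1, v, by linear_combination -hv⟩
  obtain ⟨b0, p0, hb0⟩ := h0 k e hfam
  simp only [Algebra.smul_def, map_pow, ← hF] at hb0
  let T : Ideal B :=
    { carrier := {z | IsTors x z}
      add_mem' := fun {a b} ha hb i => by
        obtain ⟨p, hp⟩ := ha i
        obtain ⟨p', hp'⟩ := hb i
        refine ⟨p + p', ?_⟩
        rw [smul_add, pow_add, mul_smul, mul_smul, hp', smul_zero, add_zero, smul_comm, hp, smul_zero]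
      zero_mem' := fun i => ⟨0, smul_zero _⟩
      smul_mem' := fun r z hz i => by
        obtain ⟨p, hp⟩ := hz i
        exact ⟨p, by rw [smul_comm, hp, smul_zero]⟩ }
  have hcong : ∀ n, F ^ c * b0 ∈ Ideal.span {F} ^ n ⊔ T := by
    intro n
    choose p v hv using hdiv n
    let P := univ.sup p
    have hv' : IsFam x (k + P) fun i => F ^ c * (am (x i) ^ (P - p i) * v i) := fun i j => by
      simp only [Algebra.smul_def, map_pow]
      obtain ⟨di, hdi⟩ := Nat.exists_eq_add_of_le (le_sup (f := p) (mem_univ i) : p i ≤ P)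
      obtain ⟨dj, hdj⟩ := Nat.exists_eq_add_of_le (le_sup (f := p) (mem_univ j) : p j ≤ P)
      have hi : F ^ n * (am (x i) ^ (P - p i) * v i) = am (x i) ^ P * e i := by
        rw [show P - p i = di by omega, show P = p i + di from hdi, pow_add]; linear_combination -(am (x i) ^ di) * hv i
      have hj : F ^ n * (am (x j) ^ (P - p j) * v j) = am (x j) ^ P * e j := by
        rw [show P - p j = dj by omega, show P = p j + dj from hdj, pow_add]; linear_combination -(am (x j) ^ dj) * hv j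
      have h2 := hc n (am (x j) ^ (k + P) * (am (x i) ^ (P - p i) * v i) -
        am (x i) ^ (k + P) * (am (x j) ^ (P - p j) * v j)) (by
          linear_combination am (x j) ^ (k + P) * hi - am (x i) ^ (k + P) * hj +
            (am (x i) * am (x j)) ^ P * he i j)
      linear_combination h2
    obtain ⟨b, p', hb⟩ := h0 _ _ hv'
    simp only [Algebra.smul_def, map_pow, ← hF] at hb
    rw [Ideal.span_singleton_pow, show F ^ c * b0 = b * F ^ n + (F ^ c * b0 - b * F ^ n) by ring]
    refine add_mem (Ideal.mem_sup_left (Ideal.mem_span_singleton'.2 ⟨b, rfl⟩)) (Ideal.mem_sup_right ?_)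
    intro i
    refine ⟨p0 + p' + k + P, ?_⟩
    simp only [Algebra.smul_def, map_pow]
    obtain ⟨di, hdi⟩ := Nat.exists_eq_add_of_le (le_sup (f := p) (mem_univ i) : p i ≤ P)
    have hi : F ^ n * (am (x i) ^ (P - p i) * v i) = am (x i) ^ P * e i := by
      rw [show P - p i = di by omega, show P = p i + di from hdi, pow_add]; linear_combination -(am (x i) ^ di) * hv i
    linear_combination -(am (x i) ^ (p' + P) * F ^ c) * hb0 i + (am (x i) ^ p0 * F ^ n) * hb i -
      (am (x i) ^ (p0 + p') * F ^ (N + c)) * hi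
  have hb0T : F ^ c * b0 ∈ T := by
    rw [← Ideal.Quotient.eq_zero_iff_mem]
    have hmem : Ideal.Quotient.mk T (F ^ c * b0) ∈ ⨅ n : ℕ, (Ideal.span {Ideal.Quotient.mk T F}) ^ n := by
      refine Ideal.mem_iInf.2 fun n => ?_
      rw [← Set.image_singleton, ← Ideal.map_span, ← Ideal.map_pow, ← Ideal.mem_comap,
        Ideal.comap_map_of_surjective _ Ideal.Quotient.mk_surjective, ← RingHom.ker_eq_comap_bot, Ideal.mk_ker]
      exact hcong n
    have hjac : Ideal.span {Ideal.Quotient.mk T F} ≤ Ideal.jacobson ⊥ := by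
      rw [Ideal.span_singleton_le_iff_mem, Ideal.mem_jacobson_bot]
      intro r
      obtain ⟨r, rfl⟩ := Ideal.Quotient.mk_surjective r
      rw [← map_mul, ← map_one (Ideal.Quotient.mk T), ← map_add]
      exact (Ideal.mem_jacobson_bot.1 ((Ideal.span_singleton_le_iff_mem _).1 hf) r).map _
    have hK := Ideal.iInf_pow_smul_eq_bot_of_le_jacobson (M := B ⧸ T) _ hjac
    simp only [smul_eq_mul, Ideal.mul_top] at hK
    rw [hK] at hmem
    exact hmem
  intro q ⟨i, hi⟩ hqO
  have hei := (heO i q bot_le hi).1 hqO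
  obtain ⟨p1, hp1⟩ := hb0T i
  simp only [Algebra.smul_def, map_pow] at hp1
  obtain ⟨p2, v, hv⟩ := hdiv (N + c) i
  have hz : am (x i) ^ (p0 + p1 + p2 + k) * e i * e i = 0 := by
    linear_combination (am (x i) ^ (p0 + p1 + k) * e i) * hv +
      (am (x i) ^ (p1 + k) * F ^ c * v) * hb0 i + (am (x i) ^ (p0 + 2 * k) * v) * hp1
  have h2 : am (x i) ^ (p0 + p1 + p2 + k) * e i * e i ∈ q.asIdeal := hz ▸ q.asIdeal.zero_mem
  exact hei ((q.isPrime.mem_or_mem ((q.isPrime.mem_or_mem h2).resolve_right hei)).resolve_left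
    fun h3 => hi (q.isPrime.mem_of_pow_mem _ h3))

end Groth.Agent.Pur25
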