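import Groth.Agent.Lib.Pur25.Regular
import Groth.Agent.S0263

/-!
# Purity for finite normal algebras
-/

set_option autoImplicit false

universe u

open CategoryTheory CategoryTheory.Limits AlgebraicGeometry TopologicalSpace

noncomputable section

namespace Groth.Agent.Pur25

/-- An open subscheme of `Spec B` covered by étale basic opens is étale. -/
theorem etale_of_basicOpens {A B : Type u} [CommRing A] [CommRing B] [Algebra A B] {P : Scheme.{u}}
    (k : P ⟶ Spec (CommRingCat.of B)) [IsOpenImmersion k] {ι : Type} (c : ι → B)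
    (hcov : ∀ z : P, ∃ i, c i ∉ (k z).asIdeal) (he : ∀ i, Algebra.Etale A (Localization.Away (c i))) :
    Etale (k ≫ Spec.map (CommRingCat.ofHom (algebraMap A B))) := by
  let D : ι → (Spec (CommRingCat.of B)).Opens := fun i => PrimeSpectrum.basicOpen (c i)
  refine (IsZariskiLocalAtSource.iff_of_iSup_eq_top (P := @Etale) (U := fun i => k ⁻¹ᵁ D i) ?_).2 fun i => ?_
  · exact top_unique fun z _ => Opens.mem_iSup.2 (hcov z)
  let ι' := Spec.map (CommRingCat.ofHom (algebraMap B (Localization.Away (c i))))
  haveI : IsOpenImmersion ι' := IsOpenImmersion.of_isLocalization (c i)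
  have hr : Set.range ι' = (PrimeSpectrum.basicOpen (c i) : Set (PrimeSpectrum B)) :=
    PrimeSpectrum.localization_away_comap_range (Localization.Away (c i)) (c i)
  have hs : Set.range ((k ⁻¹ᵁ D i).ι ≫ k) ⊆ Set.range ι' := by
    rintro _ ⟨z, rfl⟩
    rw [hr, Scheme.Hom.comp_apply]
    exact z.2
  let l := IsOpenImmersion.lift ι' ((k ⁻¹ᵁ D i).ι ≫ k) hs
  have hl : l ≫ ι' = (k ⁻¹ᵁ D i).ι ≫ k := IsOpenImmersion.lift_fac ι' _ hs
  haveI : IsOpenImmersion l := by
    haveI : IsOpenImmersion (l ≫ ι') := by rw [hl]; infer_instance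
    exact IsOpenImmersion.of_comp l ι'
  haveI : Etale (Spec.map (CommRingCat.ofHom (algebraMap A (Localization.Away (c i))))) :=
    (HasRingHomProperty.Spec_iff (P := @Etale)).2 (RingHom.etale_algebraMap.2 (he i))
  rw [← Category.assoc, ← hl, Category.assoc]
  have : ι' ≫ Spec.map (CommRingCat.ofHom (algebraMap A B)) =
      Spec.map (CommRingCat.ofHom (algebraMap A (Localization.Away (c i)))) := by
    rw [← Spec.map_comp]; congr 1
  rw [this]
  infer_instance

variable {A B : Type u} [CommRing A] [IsNoetherianRing A] [IsLocalRing A] [CommRing B] [Algebra A B]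

/-- Localizations at elements of the maximal ideal of an algebra which is étale off the closed point. -/
theorem etale_away_of_etale_off [Algebra.FiniteType A B]
    (h : ∀ (q : Ideal B) (_ : q.IsPrime), q.comap (algebraMap A B) ≠ IsLocalRing.maximalIdeal A →
      Algebra.IsEtaleAt A q) {a : A} (ha : a ∈ IsLocalRing.maximalIdeal A) :
    Algebra.Etale A (Localization.Away (algebraMap A B a)) := by
  haveI : Algebra.FinitePresentation A B := Algebra.FinitePresentation.of_finiteType.1 inferInstance
  haveI : Algebra.FinitePresentation B (Localization.Away (algebraMap A B a)) :=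
    IsLocalization.Away.finitePresentation (algebraMap A B a)
  haveI : Algebra.FinitePresentation A (Localization.Away (algebraMap A B a)) :=
    Algebra.FinitePresentation.trans A B _
  exact ⟨(Algebra.basicOpen_subset_etaleLocus_iff (R := A) (f := algebraMap A B a)).1
    fun q hq => h q.asIdeal q.isPrime fun he => hq (show a ∈ q.asIdeal.comap (algebraMap A B) by rw [he]; exact ha),
    inferInstance⟩

/-- A finite normal domain which is étale off the closed point is étale, when purity holds. -/
theorem etale_of_purity (hA : (2 : ℕ∞) ≤ LocCoh.depth A A) (hP : FEt.PurityHolds A)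
    [IsDomain B] [IsIntegrallyClosed B] [Module.Finite A B] (hinj : Function.Injective (algebraMap A B))
    (h : ∀ (q : Ideal B) (_ : q.IsPrime), q.comap (algebraMap A B) ≠ IsLocalRing.maximalIdeal A →
      Algebra.IsEtaleAt A q) : Algebra.Etale A B := by
  obtain ⟨n, x, hx⟩ := exists_generators A
  have hU := mem_puncturedSpec_iff hx
  set π := Spec.map (CommRingCat.ofHom (algebraMap A B))
  let k := pullback.fst π (FEt.puncturedSpec A).ι
  have hkr : Set.range k = {q | ∃ i, algebraMap A B (x i) ∉ q.asIdeal} := by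
    rw [Scheme.Pullback.range_fst, Scheme.Opens.range_ι]
    ext q
    exact hU _
  haveI : Etale (k ≫ π) := etale_of_basicOpens k (fun i => algebraMap A B (x i))
    (fun z => (Set.ext_iff.1 hkr (k z)).1 ⟨z, rfl⟩)
    fun i => etale_away_of_etale_off h (hx ▸ Ideal.subset_span ⟨i, rfl⟩)
  haveI : IsFinite π := (IsFinite.SpecMap_iff _).2 (RingHom.finite_algebraMap.2 inferInstance)
  have het : Etale (pullback.snd π (FEt.puncturedSpec A).ι) := by
    haveI : Etale (pullback.snd π (FEt.puncturedSpec A).ι ≫ (FEt.puncturedSpec A).ι) := by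
      rw [← pullback.condition]; infer_instance
    exact Etale.of_comp _ (FEt.puncturedSpec A).ι
  let V : FEt.Cat (FEt.puncturedSpec A : Scheme.{u}) :=
    MorphismProperty.Over.mk ⊤ (pullback.snd π (FEt.puncturedSpec A).ι) ⟨inferInstance, het⟩
  haveI : (FEt.restrict (FEt.puncturedSpec A).ι).EssSurj := hP
  obtain ⟨hfin, hetale⟩ := Groth.Agent.S0263.result A hA V
    ⟨_, ⟨(FEt.restrict (FEt.puncturedSpec A).ι).objObjPreimageIso V⟩⟩
  let R := Γ(pullback π (FEt.puncturedSpec A).ι, ⊤)
  letI : Algebra A R := (gΓ (pullback.snd π (FEt.puncturedSpec A).ι ≫ (FEt.puncturedSpec A).ι)).hom.toAlgebra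
  haveI hf : Module.Finite A R := RingHom.finite_algebraMap.1 hfin
  haveI he : Algebra.Etale A R := RingHom.etale_algebraMap.1 hetale
  let ρ : B →ₐ[A] R :=
    { ((Scheme.ΓSpecIso (CommRingCat.of B)).inv ≫ k.appTop).hom with
      commutes' := fun c => by
        have h1 : CommRingCat.ofHom (algebraMap A B) ≫ (Scheme.ΓSpecIso (CommRingCat.of B)).inv ≫ k.appTop =
            gΓ (pullback.snd π (FEt.puncturedSpec A).ι ≫ (FEt.puncturedSpec A).ι) := by
          rw [← Category.assoc, Scheme.ΓSpecIso_inv_naturality, Category.assoc, gΓ, ← pullback.condition,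
            Scheme.Hom.comp_appTop]
        exact ConcreteCategory.congr_hom h1 c }
  haveI : IsAffineHom π := inferInstance
  haveI : QuasiCompact (pullback.snd π (FEt.puncturedSpec A).ι ≫ (FEt.puncturedSpec A).ι) := inferInstance
  haveI : CompactSpace (pullback π (FEt.puncturedSpec A).ι : Scheme.{u}) :=
    QuasiCompact.compactSpace_of_compactSpace (pullback.snd π (FEt.puncturedSpec A).ι ≫ (FEt.puncturedSpec A).ι)
  haveI : IsLocallyNoetherian (pullback π (FEt.puncturedSpec A).ι) :=
    LocallyOfFiniteType.isLocallyNoetherian (pullback.snd π (FEt.puncturedSpec A).ι ≫ (FEt.puncturedSpec A).ι)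
  have hρ := sections_openImmersion k ρ.toRingHom (fun _ => rfl) (fun i => algebraMap A B (x i))
    (fun i q hq => by rw [hkr]; exact ⟨i, hq⟩)
  obtain ⟨i, hi⟩ : ∃ i, x i ≠ 0 := by
    by_contra hne
    push Not at hne
    obtain ⟨rs, hreg, hmem, hlen⟩ := exists_regular_seq (A := A) (n := 2) hA
    obtain ⟨a, t, rfl⟩ : ∃ a t, rs = a :: t := by
      match rs, hlen with
      | a :: t, _ => exact ⟨a, t, rfl⟩
    have ha0 : a = 0 := by
      have := hmem a (by simp)
      rw [← hx, show Ideal.span (Set.range x) = ⊥ from Ideal.span_eq_bot.2 (by rintro _ ⟨j, rfl⟩; exact hne j)] at this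
      exact this
    rw [RingTheory.Sequence.isWeaklyRegular_cons_iff] at hreg
    exact one_ne_zero (hreg.1 (show a • (1 : A) = a • 0 by rw [ha0, zero_smul, zero_smul]))
  have hxi : algebraMap A B (x i) ≠ 0 := (map_ne_zero_iff _ hinj).2 hi
  have hρi : Function.Injective ρ := (injective_iff_map_eq_zero ρ).2 fun b hb => by
    obtain ⟨p, hp⟩ := hρ.1 b hb i
    exact (mul_eq_zero.1 hp).resolve_left (pow_ne_zero _ hxi)
  have hρs : Function.Surjective ρ := by
    intro r
    obtain ⟨p, b, hb⟩ := hρ.2 r i
    letI : Algebra B R := ρ.toRingHom.toAlgebra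
    haveI : IsScalarTower A B R := IsScalarTower.of_algebraMap_eq fun c => (ρ.commutes c).symm
    obtain ⟨P, hP, hr⟩ := IsIntegral.tower_top (A := B) (IsIntegral.of_finite A r)
    -- `b / xᵖ` is integral over `B`
    let K := FractionRing B
    have hb0 : algebraMap B K ((algebraMap A B (x i)) ^ p) ≠ 0 :=
      (map_ne_zero_iff _ (IsFractionRing.injective B K)).2 (pow_ne_zero _ hxi)
    have hint : IsIntegral B (algebraMap B K b / algebraMap B K ((algebraMap A B (x i)) ^ p)) := by
      refine ⟨P, hP, ?_⟩
      have h2 : ρ ((P.scaleRoots ((algebraMap A B (x i)) ^ p)).eval b) = 0 := by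
        have := Polynomial.scaleRoots_eval₂_eq_zero (s := (algebraMap A B (x i)) ^ p) (algebraMap B R) hr
        rw [show algebraMap B R ((algebraMap A B (x i)) ^ p) * r = algebraMap B R b by
          rw [map_pow]; exact hb.symm, Polynomial.eval₂_at_apply] at this
        exact this
      have h3 : (P.scaleRoots ((algebraMap A B (x i)) ^ p)).eval b = 0 := hρi (by rw [h2, map_zero])
      have h5 := Polynomial.scaleRoots_eval₂_mul (p := P) (algebraMap B K)
        (algebraMap B K b / algebraMap B K ((algebraMap A B (x i)) ^ p)) ((algebraMap A B (x i)) ^ p)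
      rw [mul_div_cancel₀ _ hb0, Polynomial.eval₂_at_apply, h3, map_zero] at h5
      exact (mul_eq_zero.1 h5.symm).resolve_left (pow_ne_zero _ hb0)
    obtain ⟨c, hc⟩ := (IsIntegrallyClosed.isIntegral_iff).1 hint
    refine ⟨c, ?_⟩
    have hbc : b = (algebraMap A B (x i)) ^ p * c := IsFractionRing.injective B K (by
      rw [map_mul, hc, mul_div_cancel₀ _ hb0])
    have h4 : ρ (algebraMap A B (x i)) ^ p * ρ c = ρ (algebraMap A B (x i)) ^ p * r := by
      rw [← map_pow, ← map_mul, ← hbc, map_pow]; exact hb
    haveI : Module.Flat A R := inferInstance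
    have hregA : IsSMulRegular A (x i ^ p) := fun s t hst => hinj (mul_left_cancel₀ (pow_ne_zero p hxi) (by
      have := congrArg (algebraMap A B) hst
      simpa [smul_eq_mul] using this))
    refine (isSMulRegular_self_of_flat (N := R) hregA) ?_
    simp only [Algebra.smul_def, map_pow, ← ρ.commutes]
    exact h4
  exact Algebra.Etale.of_equiv (AlgEquiv.ofBijective ρ ⟨hρi, hρs⟩).symm

end Groth.Agent.Pur25
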